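import Cfsg.Agent.H15.Ly.AM
set_option autoImplicit false
set_option maxRecDepth 100000

namespace Cfsg.Agent.H15.Ly
open Cfsg.Agent.H15 Cfsg.Agent.H14

theorem M7k0 : RAll M7.okL 0 1 := RAll.one (by decide +kernel)
theorem M7k1 : RAll M7.okL 1 2 := RAll.one (by decide +kernel)
theorem M7k2 : RAll M7.okL 2 3 := RAll.one (by decide +kernel)
theorem M7k3 : RAll M7.okL 3 4 := RAll.one (by decide +kernel)
theorem M7k4 : RAll M7.okL 4 5 := RAll.one (by decide +kernel)
theorem M7k5 : RAll M7.okL 5 6 := RAll.one (by decide +kernel)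
theorem M7k6 : RAll M7.okL 6 7 := RAll.one (by decide +kernel)
theorem M7k7 : RAll M7.okL 7 8 := RAll.one (by decide +kernel)
theorem M7k8 : RAll M7.okL 8 9 := RAll.one (by decide +kernel)
theorem M7k9 : RAll M7.okL 9 10 := RAll.one (by decide +kernel)
theorem M7k10 : RAll M7.okL 10 11 := RAll.one (by decide +kernel)
theorem M7k11 : RAll M7.okL 11 12 := RAll.one (by decide +kernel)
theorem M7k12 : RAll M7.okL 12 13 := RAll.one (by decide +kernel)
theorem M7k13 : RAll M7.okL 13 14 := RAll.one (by decide +kernel)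
theorem M7k14 : RAll M7.okL 14 15 := RAll.one (by decide +kernel)
theorem M7k15 : RAll M7.okL 15 16 := RAll.one (by decide +kernel)

end Cfsg.Agent.H15.Ly
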