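import Cfsg.Agent.H15.Ly.P
set_option autoImplicit false
set_option maxRecDepth 100000

namespace Cfsg.Agent.H15.Ly
open Cfsg.Agent.H15 Cfsg.Agent.H14

noncomputable def M7c0 : List ℕ := [nat_lit 0x182, nat_lit 0x181, nat_lit 0x3080c000, nat_lit 0x30610000, nat_lit 0x30408000, nat_lit 0x42000000000, nat_lit 0x41000000000]
noncomputable def M7c1 : List ℕ := [nat_lit 0x201, nat_lit 0x203, nat_lit 0x3080c000, nat_lit 0x30610000, nat_lit 0x30408000, nat_lit 0x81800000000, nat_lit 0x82000000000]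
noncomputable def M7c2 : List ℕ := [nat_lit 0x1, nat_lit 0x83, nat_lit 0x4000, nat_lit 0x20c000, nat_lit 0x10210000, nat_lit 0x800000000, nat_lit 0x41800000000]
noncomputable def M7c3 : List ℕ := [nat_lit 0x1, nat_lit 0x82, nat_lit 0x4000, nat_lit 0x208000, nat_lit 0x10810000, nat_lit 0x800000000, nat_lit 0x41000000000]
noncomputable def M7c4 : List ℕ := [nat_lit 0x4080060c001, nat_lit 0x10201080c080, nat_lit 0x800004000, nat_lit 0x101800200000, nat_lit 0x81810000000, nat_lit 0x800000000, nat_lit 0x40000000000]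
noncomputable def M7c5 : List ℕ := [nat_lit 0x40800408001, nat_lit 0x102040208080, nat_lit 0x2000004000, nat_lit 0x41000200000, nat_lit 0xc1010000000, nat_lit 0x800000000, nat_lit 0x40000000000]
noncomputable def M7c6 : List ℕ := [nat_lit 0x1000000000, nat_lit 0x80000000000, nat_lit 0x4000, nat_lit 0x200000, nat_lit 0x10000000, nat_lit 0x2, nat_lit 0x100]
noncomputable def M7c7 : List ℕ := [nat_lit 0x1800000000, nat_lit 0xc0000000000, nat_lit 0x4000, nat_lit 0x200000, nat_lit 0x10000000, nat_lit 0x3, nat_lit 0x180]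
noncomputable def M7c8 : List ℕ := [nat_lit 0x182, nat_lit 0x181, nat_lit 0x3080c000, nat_lit 0x30610000, nat_lit 0x30408000, nat_lit 0x42000000000, nat_lit 0x41000000000]
noncomputable def M7c9 : List ℕ := [nat_lit 0xc1810404000, nat_lit 0x40810404000, nat_lit 0x1000408102, nat_lit 0x200060c102, nat_lit 0x1800810102, nat_lit 0x4003, nat_lit 0x8003]
noncomputable def M7c10 : List ℕ := [nat_lit 0x42000000000, nat_lit 0xc0000000000, nat_lit 0x3080c000, nat_lit 0x40200000, nat_lit 0x20000000, nat_lit 0x103, nat_lit 0x80]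
noncomputable def M7c11 : List ℕ := [nat_lit 0x102000000183, nat_lit 0x42000000103, nat_lit 0x20808000, nat_lit 0x30008000, nat_lit 0x20208000, nat_lit 0x81000000081, nat_lit 0xc1000000201]
noncomputable def M7c12 : List ℕ := [nat_lit 0x182, nat_lit 0x181, nat_lit 0x3080c000, nat_lit 0x30610000, nat_lit 0x30408000, nat_lit 0x42000000000, nat_lit 0x41000000000]
noncomputable def M7c13 : List ℕ := [nat_lit 0x183, nat_lit 0x101, nat_lit 0x3020c000, nat_lit 0x20604000, nat_lit 0x30608000, nat_lit 0x40800000000, nat_lit 0x101000000000]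
noncomputable def M7c14 : List ℕ := [nat_lit 0x8203060c001, nat_lit 0x41810808080, nat_lit 0x41840210200, nat_lit 0x82020608004, nat_lit 0x40840210084, nat_lit 0x202000c203, nat_lit 0x10000080c101]
noncomputable def M7c15 : List ℕ := [nat_lit 0x83, nat_lit 0x104, nat_lit 0x30608000, nat_lit 0x10004000, nat_lit 0x2060c000, nat_lit 0xc2000000000, nat_lit 0x41000000000]
noncomputable def M7cs (l : ℕ) : List ℕ := (Bool.rec (Bool.rec (Bool.rec (Bool.rec M7c0 M7c1 (Nat.ble (nat_lit 1) l)) (Bool.rec M7c2 M7c3 (Nat.ble (nat_lit 3) l)) (Nat.ble (nat_lit 2) l)) (Bool.rec (Bool.rec M7c4 M7c5 (Nat.ble (nat_lit 5) l)) (Bool.rec M7c6 M7c7 (Nat.ble (nat_lit 7) l)) (Nat.ble (nat_lit 6) l)) (Nat.ble (nat_lit 4) l)) (Bool.rec (Bool.rec (Bool.rec M7c8 M7c9 (Nat.ble (nat_lit 9) l)) (Bool.rec M7c10 M7c11 (Nat.ble (nat_lit 11) l)) (Nat.ble (nat_lit 10) l)) (Bool.rec (Bool.rec M7c12 M7c13 (Nat.ble (nat_lit 13) l)) (Bool.rec M7c14 M7c15 (Nat.ble (nat_lit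 15) l)) (Nat.ble (nat_lit 14) l)) (Nat.ble (nat_lit 12) l)) (Nat.ble (nat_lit 8) l))
def M7iw : List (List ℕ) := [[1], [0], [3], [2], [5], [4], [7], [6], [1], [5, 2, 6, 1, 3, 4, 7, 2, 1, 3, 4, 0], [7, 1, 2], [0, 4, 3, 5, 3, 0, 3, 5, 6, 4, 3, 5, 1, 3, 3, 1, 5, 1], [1], [2, 1, 3], [4, 1, 5, 2, 4, 6, 4, 1, 4, 0, 4, 7, 3, 0], [2, 2, 1, 3, 3, 1, 1]]
noncomputable def M7 : BM := ⟨5, 128, 7, 16, M7cs, nthW M7iw⟩

end Cfsg.Agent.H15.Ly
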