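import Cfsg.Agent.H15.Ly.BM
set_option autoImplicit false
set_option maxRecDepth 100000

namespace Cfsg.Agent.H15.Ly
open Cfsg.Agent.H15 Cfsg.Agent.H14

theorem M14k0 : RAll M14.okL 0 1 := RAll.one (by decide +kernel)
theorem M14k1 : RAll M14.okL 1 2 := RAll.one (by decide +kernel)
theorem M14k2 : RAll M14.okL 2 3 := RAll.one (by decide +kernel)
theorem M14k3 : RAll M14.okL 3 4 := RAll.one (by decide +kernel)
theorem M14k4 : RAll M14.okL 4 5 := RAll.one (by decide +kernel)
theorem M14k5 : RAll M14.okL 5 6 := RAll.one (by decide +kernel)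
theorem M14k6 : RAll M14.okL 6 7 := RAll.one (by decide +kernel)
theorem M14k7 : RAll M14.okL 7 8 := RAll.one (by decide +kernel)
theorem M14k8 : RAll M14.okL 8 9 := RAll.one (by decide +kernel)
theorem M14k9 : RAll M14.okL 9 10 := RAll.one (by decide +kernel)
theorem M14k10 : RAll M14.okL 10 11 := RAll.one (by decide +kernel)
theorem M14k11 : RAll M14.okL 11 12 := RAll.one (by decide +kernel)
theorem M14k12 : RAll M14.okL 12 13 := RAll.one (by decide +kernel)
theorem M14k13 : RAll M14.okL 13 14 := RAll.one (by decide +kernel)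
theorem M14k14 : RAll M14.okL 14 15 := RAll.one (by decide +kernel)
theorem M14k15 : RAll M14.okL 15 16 := RAll.one (by decide +kernel)
theorem M14k16 : RAll M14.okL 16 17 := RAll.one (by decide +kernel)
theorem M14k17 : RAll M14.okL 17 18 := RAll.one (by decide +kernel)
theorem M14k18 : RAll M14.okL 18 19 := RAll.one (by decide +kernel)
theorem M14k19 : RAll M14.okL 19 20 := RAll.one (by decide +kernel)
theorem M14k20 : RAll M14.okL 20 21 := RAll.one (by decide +kernel)
theorem M14k21 : RAll M14.okL 21 22 := RAll.one (by decide +kernel)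
theorem M14k22 : RAll M14.okL 22 23 := RAll.one (by decide +kernel)
theorem M14k23 : RAll M14.okL 23 24 := RAll.one (by decide +kernel)
theorem M14k24 : RAll M14.okL 24 25 := RAll.one (by decide +kernel)
theorem M14k25 : RAll M14.okL 25 26 := RAll.one (by decide +kernel)
theorem M14k26 : RAll M14.okL 26 27 := RAll.one (by decide +kernel)
theorem M14k27 : RAll M14.okL 27 28 := RAll.one (by decide +kernel)
theorem M14k28 : RAll M14.okL 28 29 := RAll.one (by decide +kernel)
theorem M14k29 : RAll M14.okL 29 30 := RAll.one (by decide +kernel)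
theorem M14k30 : RAll M14.okL 30 31 := RAll.one (by decide +kernel)
theorem M14k31 : RAll M14.okL 31 32 := RAll.one (by decide +kernel)
theorem M14k32 : RAll M14.okL 32 33 := RAll.one (by decide +kernel)
theorem M14k33 : RAll M14.okL 33 34 := RAll.one (by decide +kernel)
theorem M14k34 : RAll M14.okL 34 35 := RAll.one (by decide +kernel)
theorem M14k35 : RAll M14.okL 35 36 := RAll.one (by decide +kernel)
theorem M14k36 : RAll M14.okL 36 37 := RAll.one (by decide +kernel)
theorem M14k37 : RAll M14.okL 37 38 := RAll.one (by decide +kernel)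
theorem M14k38 : RAll M14.okL 38 39 := RAll.one (by decide +kernel)
theorem M14k39 : RAll M14.okL 39 40 := RAll.one (by decide +kernel)
theorem M14k40 : RAll M14.okL 40 41 := RAll.one (by decide +kernel)
theorem M14k41 : RAll M14.okL 41 42 := RAll.one (by decide +kernel)
theorem M14k42 : RAll M14.okL 42 43 := RAll.one (by decide +kernel)
theorem M14k43 : RAll M14.okL 43 44 := RAll.one (by decide +kernel)
theorem M14k44 : RAll M14.okL 44 45 := RAll.one (by decide +kernel)
theorem M14k45 : RAll M14.okL 45 46 := RAll.one (by decide +kernel)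
theorem M14k46 : RAll M14.okL 46 47 := RAll.one (by decide +kernel)
theorem M14k47 : RAll M14.okL 47 48 := RAll.one (by decide +kernel)
theorem M14k48 : RAll M14.okL 48 49 := RAll.one (by decide +kernel)
theorem M14k49 : RAll M14.okL 49 50 := RAll.one (by decide +kernel)
theorem M14k50 : RAll M14.okL 50 51 := RAll.one (by decide +kernel)
theorem M14k51 : RAll M14.okL 51 52 := RAll.one (by decide +kernel)
theorem M14k52 : RAll M14.okL 52 53 := RAll.one (by decide +kernel)
theorem M14k53 : RAll M14.okL 53 54 := RAll.one (by decide +kernel)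
theorem M14k54 : RAll M14.okL 54 55 := RAll.one (by decide +kernel)
theorem M14k55 : RAll M14.okL 55 56 := RAll.one (by decide +kernel)
theorem M14k56 : RAll M14.okL 56 57 := RAll.one (by decide +kernel)
theorem M14k57 : RAll M14.okL 57 58 := RAll.one (by decide +kernel)
theorem M14k58 : RAll M14.okL 58 59 := RAll.one (by decide +kernel)
theorem M14k59 : RAll M14.okL 59 60 := RAll.one (by decide +kernel)
theorem M14k60 : RAll M14.okL 60 61 := RAll.one (by decide +kernel)
theorem M14k61 : RAll M14.okL 61 62 := RAll.one (by decide +kernel)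
theorem M14k62 : RAll M14.okL 62 63 := RAll.one (by decide +kernel)
theorem M14k63 : RAll M14.okL 63 64 := RAll.one (by decide +kernel)
theorem M14k64 : RAll M14.okL 64 65 := RAll.one (by decide +kernel)
theorem M14k65 : RAll M14.okL 65 66 := RAll.one (by decide +kernel)
theorem M14k66 : RAll M14.okL 66 67 := RAll.one (by decide +kernel)
theorem M14k67 : RAll M14.okL 67 68 := RAll.one (by decide +kernel)
theorem M14k68 : RAll M14.okL 68 69 := RAll.one (by decide +kernel)
theorem M14k69 : RAll M14.okL 69 70 := RAll.one (by decide +kernel)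
theorem M14k70 : RAll M14.okL 70 71 := RAll.one (by decide +kernel)
theorem M14k71 : RAll M14.okL 71 72 := RAll.one (by decide +kernel)
theorem M14k72 : RAll M14.okL 72 73 := RAll.one (by decide +kernel)
theorem M14k73 : RAll M14.okL 73 74 := RAll.one (by decide +kernel)
theorem M14k74 : RAll M14.okL 74 75 := RAll.one (by decide +kernel)
theorem M14k75 : RAll M14.okL 75 76 := RAll.one (by decide +kernel)
theorem M14k76 : RAll M14.okL 76 77 := RAll.one (by decide +kernel)
theorem M14k77 : RAll M14.okL 77 78 := RAll.one (by decide +kernel)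
theorem M14k78 : RAll M14.okL 78 79 := RAll.one (by decide +kernel)
theorem M14k79 : RAll M14.okL 79 80 := RAll.one (by decide +kernel)
theorem M14k80 : RAll M14.okL 80 81 := RAll.one (by decide +kernel)
theorem M14k81 : RAll M14.okL 81 82 := RAll.one (by decide +kernel)
theorem M14k82 : RAll M14.okL 82 83 := RAll.one (by decide +kernel)
theorem M14k83 : RAll M14.okL 83 84 := RAll.one (by decide +kernel)
theorem M14k84 : RAll M14.okL 84 85 := RAll.one (by decide +kernel)
theorem M14k85 : RAll M14.okL 85 86 := RAll.one (by decide +kernel)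
theorem M14k86 : RAll M14.okL 86 87 := RAll.one (by decide +kernel)
theorem M14k87 : RAll M14.okL 87 88 := RAll.one (by decide +kernel)
theorem M14k88 : RAll M14.okL 88 89 := RAll.one (by decide +kernel)
theorem M14k89 : RAll M14.okL 89 90 := RAll.one (by decide +kernel)
theorem M14k90 : RAll M14.okL 90 91 := RAll.one (by decide +kernel)
theorem M14k91 : RAll M14.okL 91 92 := RAll.one (by decide +kernel)

end Cfsg.Agent.H15.Ly
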