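import Cfsg.Agent.H15.Ly.CD
set_option autoImplicit false
set_option maxRecDepth 100000

namespace Cfsg.Agent.H15.Ly
open Cfsg.Agent.H15 Cfsg.Agent.H14

set_option Elab.async false

theorem mcq0 : satChk (fun x l => tr MM.ap (nthW mcs l) x) 8 MM.bs (idW 8) ([0, 1, 2].map (repL mcz)) McP.pT ((McP.pB.drop 0).take 10) = true := by decide +kernel
theorem mcq1 : satChk (fun x l => tr MM.ap (nthW mcs l) x) 8 MM.bs (idW 8) ([0, 1, 2].map (repL mcz)) McP.pT ((McP.pB.drop 10).take 5) = true := by decide +kernel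
theorem mcq3 : satChk (fun x l => tr MM.ap (nthW mcs l) x) 8 MM.bs (idW 8) ([0, 1, 2].map (repL mcz)) McP.pT ((McP.pB.drop 18).take 3) = true := by decide +kernel
theorem sM21 : allL ((BF.drop 36).take 1) (fun p => okW 10 p.1 && eqOn MM.ap MM.L MM.bs (repL p.1 p.2) []) = true := by decide +kernel
theorem alq6 : satChk (fun x l => tr MM.ap (nthW als l) x) 18 MM.bs (idW 18) ([1, 0].map (repL alz)) Alt11.pT ((Alt11.pB.drop 44).take 1) = true := by decide +kernel
theorem sM2 : allL ((BF.drop 11).take 1) (fun p => okW 10 p.1 && eqOn MM.ap MM.L MM.bs (repL p.1 p.2) []) = true := by decide +kernel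
theorem sM9 : allL ((BF.drop 20).take 3) (fun p => okW 10 p.1 && eqOn MM.ap MM.L MM.bs (repL p.1 p.2) []) = true := by decide +kernel
theorem sM20 : allL ((BF.drop 35).take 1) (fun p => okW 10 p.1 && eqOn MM.ap MM.L MM.bs (repL p.1 p.2) []) = true := by decide +kernel
theorem sM3 : allL ((BF.drop 12).take 2) (fun p => okW 10 p.1 && eqOn MM.ap MM.L MM.bs (repL p.1 p.2) []) = true := by decide +kernel
theorem MMk11 : RAll MM.okL 11 15 := RAll.of (by decide +kernel)
theorem sM8 : allL ((BF.drop 18).take 2) (fun p => okW 10 p.1 && eqOn MM.ap MM.L MM.bs (repL p.1 p.2) []) = true := by decide +kernel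
theorem g11b : eqOn MM.ap MM.L MM.bs (repL (38 :: [2, 0, 3, 1]) 5) [] = true := by decide +kernel
theorem sM6 : allL ((BF.drop 16).take 1) (fun p => okW 10 p.1 && eqOn MM.ap MM.L MM.bs (repL p.1 p.2) []) = true := by decide +kernel
theorem sM5 : allL ((BF.drop 15).take 1) (fun p => okW 10 p.1 && eqOn MM.ap MM.L MM.bs (repL p.1 p.2) []) = true := by decide +kernel
theorem alc6 : RAll (fun l => eqOn (fun x l => tr MM.ap (nthW als l) x) 18 MM.bs (appL [l] alz) (appL alz [l])) 6 8 := RAll.of (by decide +kernel)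
theorem alc14 : RAll (fun l => eqOn (fun x l => tr MM.ap (nthW als l) x) 18 MM.bs (appL [l] alz) (appL alz [l])) 14 16 := RAll.of (by decide +kernel)
theorem sM13 : allL ((BF.drop 27).take 2) (fun p => okW 10 p.1 && eqOn MM.ap MM.L MM.bs (repL p.1 p.2) []) = true := by decide +kernel
theorem x67 : exOk MM.ap MM.L (Nat.shiftLeft 1 (Nat.mul MM.w MM.m)) [w67] [] 1 67 o67 = true := by decide +kernel
theorem mcn : neAt (fun x l => tr MM.ap (nthW mcs l) x) 8 (Nat.shiftLeft 1 (Nat.mul MM.w MM.m)) (2 ^ 0) [0, 8 - 1] [8 - 1, 0] = true := by decide +kernel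
theorem neT : neAt MM.ap MM.L (Nat.shiftLeft 1 (Nat.mul MM.w MM.m)) (2 ^ 0) gT [] = true := by decide +kernel

end Cfsg.Agent.H15.Ly
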