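import Cfsg.Agent.H15.Ly.CD
set_option autoImplicit false
set_option maxRecDepth 100000

namespace Cfsg.Agent.H15.Ly
open Cfsg.Agent.H15 Cfsg.Agent.H14

set_option Elab.async false

theorem alq0 : satChk (fun x l => tr MM.ap (nthW als l) x) 18 MM.bs (idW 18) ([1, 0].map (repL alz)) Alt11.pT ((Alt11.pB.drop 0).take 9) = true := by decide +kernel
theorem alq5 : satChk (fun x l => tr MM.ap (nthW als l) x) 18 MM.bs (idW 18) ([1, 0].map (repL alz)) Alt11.pT ((Alt11.pB.drop 37).take 7) = true := by decide +kernel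
theorem sM23 : allL ((BF.drop 38).take 1) (fun p => okW 10 p.1 && eqOn MM.ap MM.L MM.bs (repL p.1 p.2) []) = true := by decide +kernel
theorem sM18 : allL ((BF.drop 33).take 1) (fun p => okW 10 p.1 && eqOn MM.ap MM.L MM.bs (repL p.1 p.2) []) = true := by decide +kernel
theorem sM30 : allL ((BF.drop 82).take 1) (fun p => okW 10 p.1 && eqOn MM.ap MM.L MM.bs (repL p.1 p.2) []) = true := by decide +kernel
theorem sM17 : allL ((BF.drop 32).take 1) (fun p => okW 10 p.1 && eqOn MM.ap MM.L MM.bs (repL p.1 p.2) []) = true := by decide +kernel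
theorem sM26 : allL ((BF.drop 43).take 30) (fun p => okW 10 p.1 && eqOn MM.ap MM.L MM.bs (repL p.1 p.2) []) = true := by decide +kernel
theorem sM29 : allL ((BF.drop 79).take 3) (fun p => okW 10 p.1 && eqOn MM.ap MM.L MM.bs (repL p.1 p.2) []) = true := by decide +kernel
theorem MMk20 : RAll MM.okL 20 26 := RAll.of (by decide +kernel)
theorem sM14 : allL ((BF.drop 29).take 1) (fun p => okW 10 p.1 && eqOn MM.ap MM.L MM.bs (repL p.1 p.2) []) = true := by decide +kernel
theorem mcc0 : RAll (fun l => eqOn (fun x l => tr MM.ap (nthW mcs l) x) 8 MM.bs (appL [l] mcz) (appL mcz [l])) 0 2 := RAll.of (by decide +kernel)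
theorem mcc6 : RAll (fun l => eqOn (fun x l => tr MM.ap (nthW mcs l) x) 8 MM.bs (appL [l] mcz) (appL mcz [l])) 6 8 := RAll.of (by decide +kernel)
theorem sM4 : allL ((BF.drop 14).take 1) (fun p => okW 10 p.1 && eqOn MM.ap MM.L MM.bs (repL p.1 p.2) []) = true := by decide +kernel
theorem alc0 : RAll (fun l => eqOn (fun x l => tr MM.ap (nthW als l) x) 18 MM.bs (appL [l] alz) (appL alz [l])) 0 2 := RAll.of (by decide +kernel)
theorem alc8 : RAll (fun l => eqOn (fun x l => tr MM.ap (nthW als l) x) 18 MM.bs (appL [l] alz) (appL alz [l])) 8 10 := RAll.of (by decide +kernel)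
theorem alc16 : RAll (fun l => eqOn (fun x l => tr MM.ap (nthW als l) x) 18 MM.bs (appL [l] alz) (appL alz [l])) 16 18 := RAll.of (by decide +kernel)
theorem g11a : eqOn MM.ap MM.L MM.bs (repL [38] 11) [] = true := by decide +kernel
theorem alg : eqOn MM.ap MM.L MM.bs (xw als alz) gT = true := by decide +kernel
theorem aln : neAt (fun x l => tr MM.ap (nthW als l) x) 18 (Nat.shiftLeft 1 (Nat.mul MM.w MM.m)) (2 ^ 0) [0, 18 - 1] [18 - 1, 0] = true := by decide +kernel
theorem neI : neAt MM.ap MM.L (Nat.shiftLeft 1 (Nat.mul MM.w MM.m)) (2 ^ 0) [2, 0, 3, 1] [] = true := by decide +kernel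

end Cfsg.Agent.H15.Ly
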