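import Cfsg.Agent.H15.Ly.CD
set_option autoImplicit false
set_option maxRecDepth 100000

namespace Cfsg.Agent.H15.Ly
open Cfsg.Agent.H15 Cfsg.Agent.H14

set_option Elab.async false

theorem alq1 : satChk (fun x l => tr MM.ap (nthW als l) x) 18 MM.bs (idW 18) ([1, 0].map (repL alz)) Alt11.pT ((Alt11.pB.drop 9).take 7) = true := by decide +kernel
theorem alq3 : satChk (fun x l => tr MM.ap (nthW als l) x) 18 MM.bs (idW 18) ([1, 0].map (repL alz)) Alt11.pT ((Alt11.pB.drop 23).take 7) = true := by decide +kernel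
theorem sM32 : allL ((BF.drop 84).take 1) (fun p => okW 10 p.1 && eqOn MM.ap MM.L MM.bs (repL p.1 p.2) []) = true := by decide +kernel
theorem sM19 : allL ((BF.drop 34).take 1) (fun p => okW 10 p.1 && eqOn MM.ap MM.L MM.bs (repL p.1 p.2) []) = true := by decide +kernel
theorem sM31 : allL ((BF.drop 83).take 1) (fun p => okW 10 p.1 && eqOn MM.ap MM.L MM.bs (repL p.1 p.2) []) = true := by decide +kernel
theorem sM33 : allL ((BF.drop 85).take 1) (fun p => okW 10 p.1 && eqOn MM.ap MM.L MM.bs (repL p.1 p.2) []) = true := by decide +kernel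
theorem sM15 : allL ((BF.drop 30).take 1) (fun p => okW 10 p.1 && eqOn MM.ap MM.L MM.bs (repL p.1 p.2) []) = true := by decide +kernel
theorem sM28 : allL ((BF.drop 76).take 3) (fun p => okW 10 p.1 && eqOn MM.ap MM.L MM.bs (repL p.1 p.2) []) = true := by decide +kernel
theorem MMk26 : RAll MM.okL 26 32 := RAll.of (by decide +kernel)
theorem MMk32 : RAll MM.okL 32 35 := RAll.of (by decide +kernel)
theorem sM12 : allL ((BF.drop 25).take 2) (fun p => okW 10 p.1 && eqOn MM.ap MM.L MM.bs (repL p.1 p.2) []) = true := by decide +kernel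
theorem mcc4 : RAll (fun l => eqOn (fun x l => tr MM.ap (nthW mcs l) x) 8 MM.bs (appL [l] mcz) (appL mcz [l])) 4 6 := RAll.of (by decide +kernel)
theorem sM11 : allL ((BF.drop 24).take 1) (fun p => okW 10 p.1 && eqOn MM.ap MM.L MM.bs (repL p.1 p.2) []) = true := by decide +kernel
theorem alc4 : RAll (fun l => eqOn (fun x l => tr MM.ap (nthW als l) x) 18 MM.bs (appL [l] alz) (appL alz [l])) 4 6 := RAll.of (by decide +kernel)
theorem alc12 : RAll (fun l => eqOn (fun x l => tr MM.ap (nthW als l) x) 18 MM.bs (appL [l] alz) (appL alz [l])) 12 14 := RAll.of (by decide +kernel)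
theorem sM10 : allL ((BF.drop 23).take 1) (fun p => okW 10 p.1 && eqOn MM.ap MM.L MM.bs (repL p.1 p.2) []) = true := by decide +kernel
theorem sM24 : allL ((BF.drop 39).take 3) (fun p => okW 10 p.1 && eqOn MM.ap MM.L MM.bs (repL p.1 p.2) []) = true := by decide +kernel
theorem sM1 : allL ((BF.drop 10).take 1) (fun p => okW 10 p.1 && eqOn MM.ap MM.L MM.bs (repL p.1 p.2) []) = true := by decide +kernel
theorem neM : neAt MM.ap MM.L (Nat.shiftLeft 1 (Nat.mul MM.w MM.m)) (2 ^ 0) gM [] = true := by decide +kernel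

end Cfsg.Agent.H15.Ly
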