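import Cfsg.Agent.H15.Ly.CD
set_option autoImplicit false
set_option maxRecDepth 100000

namespace Cfsg.Agent.H15.Ly
open Cfsg.Agent.H15 Cfsg.Agent.H14

set_option Elab.async false

theorem alq2 : satChk (fun x l => tr MM.ap (nthW als l) x) 18 MM.bs (idW 18) ([1, 0].map (repL alz)) Alt11.pT ((Alt11.pB.drop 16).take 7) = true := by decide +kernel
theorem alq4 : satChk (fun x l => tr MM.ap (nthW als l) x) 18 MM.bs (idW 18) ([1, 0].map (repL alz)) Alt11.pT ((Alt11.pB.drop 30).take 7) = true := by decide +kernel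
theorem sM22 : allL ((BF.drop 37).take 1) (fun p => okW 10 p.1 && eqOn MM.ap MM.L MM.bs (repL p.1 p.2) []) = true := by decide +kernel
theorem mcq2 : satChk (fun x l => tr MM.ap (nthW mcs l) x) 8 MM.bs (idW 8) ([0, 1, 2].map (repL mcz)) McP.pT ((McP.pB.drop 15).take 3) = true := by decide +kernel
theorem sM25 : allL ((BF.drop 42).take 1) (fun p => okW 10 p.1 && eqOn MM.ap MM.L MM.bs (repL p.1 p.2) []) = true := by decide +kernel
theorem sM16 : allL ((BF.drop 31).take 1) (fun p => okW 10 p.1 && eqOn MM.ap MM.L MM.bs (repL p.1 p.2) []) = true := by decide +kernel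
theorem sM0 : allL ((BF.drop 0).take 10) (fun p => okW 10 p.1 && eqOn MM.ap MM.L MM.bs (repL p.1 p.2) []) = true := by decide +kernel
theorem sM27 : allL ((BF.drop 73).take 3) (fun p => okW 10 p.1 && eqOn MM.ap MM.L MM.bs (repL p.1 p.2) []) = true := by decide +kernel
theorem MMk0 : RAll MM.okL 0 11 := RAll.of (by decide +kernel)
theorem MMk15 : RAll MM.okL 15 20 := RAll.of (by decide +kernel)
theorem mcc2 : RAll (fun l => eqOn (fun x l => tr MM.ap (nthW mcs l) x) 8 MM.bs (appL [l] mcz) (appL mcz [l])) 2 4 := RAll.of (by decide +kernel)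
theorem MMk35 : RAll MM.okL 35 38 := RAll.of (by decide +kernel)
theorem sM7 : allL ((BF.drop 17).take 1) (fun p => okW 10 p.1 && eqOn MM.ap MM.L MM.bs (repL p.1 p.2) []) = true := by decide +kernel
theorem alc2 : RAll (fun l => eqOn (fun x l => tr MM.ap (nthW als l) x) 18 MM.bs (appL [l] alz) (appL alz [l])) 2 4 := RAll.of (by decide +kernel)
theorem alc10 : RAll (fun l => eqOn (fun x l => tr MM.ap (nthW als l) x) 18 MM.bs (appL [l] alz) (appL alz [l])) 10 12 := RAll.of (by decide +kernel)
theorem MMk38 : RAll MM.okL 38 39 := RAll.of (by decide +kernel)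
theorem mcg : eqOn MM.ap MM.L MM.bs (xw mcs mcz) gM = true := by decide +kernel
theorem MMkc : MM.okC = true := by decide +kernel
theorem x37 : exOk MM.ap MM.L (Nat.shiftLeft 1 (Nat.mul MM.w MM.m)) [w37] [] 1 37 o37 = true := by decide +kernel

end Cfsg.Agent.H15.Ly
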