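import Cfsg.Agent.H15.Ly.T
set_option autoImplicit false
set_option maxRecDepth 100000

namespace Cfsg.Agent.H15.Ly
open Cfsg.Agent.H15 Cfsg.Agent.H14

def ft0 : DT := (.node 8 (.node 4 (.node 2 (.node 1 (.leaf ⟨0, [], true, 1, []⟩) (.leaf ⟨1, [], true, 0, [0, 0]⟩)) (.node 3 (.leaf ⟨1, [2, 4, 2, 5, 3, 4, 3, 5], false, 1, []⟩) (.leaf ⟨1, [3, 3, 0, 4, 1, 2, 4, 2], false, 1, []⟩))) (.node 6 (.node 5 (.leaf ⟨1, [0, 3, 0, 5, 1, 2, 1], false, 1, []⟩) (.leaf ⟨1, [3, 1, 2, 4, 3, 0, 2], false, 1, []⟩)) (.node 7 (.leaf ⟨1, [0, 6, 6], false, 1, []⟩) (.leaf ⟨1, [0, 0], false, 1, []⟩)))) (.node 12 (.node 10 (.node 9 (.leaf ⟨1, [1, 1, 2, 1, 3], false, 1, []⟩) (.leaf ⟨1, [0, 2, 2, 0, 3,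 3, 1], false, 1, []⟩)) (.node 11 (.leaf ⟨1, [2], true, 1, [0, 3, 3, 0, 2, 2, 1]⟩) (.leaf ⟨1, [7, 0, 3, 5, 1, 2, 5, 7], true, 1, [2, 0, 6, 5, 6, 5, 0, 6, 4, 7, 4, 6, 4, 0]⟩))) (.node 14 (.node 13 (.leaf ⟨1, [7], true, 2, []⟩) (.leaf ⟨2, [], true, 1, [0, 0, 6]⟩)) (.node 15 (.leaf ⟨2, [2, 0, 2, 1, 3, 3], false, 2, []⟩) (.leaf ⟨2, [0, 3, 0, 2, 2], false, 2, []⟩)))))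
def ft16 : DT := (.node 24 (.node 20 (.node 18 (.node 17 (.leaf ⟨2, [1, 1], false, 2, []⟩) (.leaf ⟨2, [1, 1, 2, 1, 3], false, 2, []⟩)) (.node 19 (.leaf ⟨2, [1, 3, 3, 1, 2, 1], false, 2, []⟩) (.leaf ⟨2, [0], false, 2, []⟩))) (.node 22 (.node 21 (.leaf ⟨2, [5, 7, 2, 1, 3, 5, 7], true, 1, [2, 0, 4, 3, 5, 3, 0, 4, 7, 4, 1, 2, 4]⟩) (.leaf ⟨2, [1, 5, 2, 0, 3, 6, 5, 2, 0, 7, 3, 4], false, 2, []⟩)) (.node 23 (.leaf ⟨2, [0, 5, 7, 1, 5, 1, 2, 5, 7], true, 2, [3, 6, 5, 2, 4, 4, 0, 3, 7, 5, 1, 6, 4, 3, 1, 5]⟩) (.leaf ⟨2, [6, 5, 7, 1, 5, 7, 1, 2], true, 2, [3, 3, 4, 7, 4, 0, 4, 3, 5, 1, 4, 6, 4, 4]⟩)))) (.node 28 (.node 26 (.node 25 (.leaf ⟨2, [4, 6, 4, 1, 5, 7, 3, 3], true, 2, [5, 6,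 4, 0, 4, 6, 4, 0, 3, 4, 2, 6, 5, 2, 0]⟩) (.leaf ⟨2, [7], true, 3, []⟩)) (.node 27 (.leaf ⟨3, [], true, 2, [0, 0, 6]⟩) (.leaf ⟨3, [0, 0, 0, 3, 3, 0, 2], false, 3, []⟩))) (.node 30 (.node 29 (.leaf ⟨3, [1, 1, 2, 1, 3], false, 3, []⟩) (.leaf ⟨3, [0, 0], false, 3, []⟩)) (.node 31 (.leaf ⟨3, [0], false, 3, []⟩) (.leaf ⟨3, [1, 5, 7, 2, 1, 3, 5, 7], true, 1, [0, 2, 2, 0, 4, 1, 6, 4, 2, 6, 4, 1, 2, 4, 3]⟩)))))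
def ft32 : DT := (.node 40 (.node 36 (.node 34 (.node 33 (.leaf ⟨1, [0, 5, 2, 4, 6, 0, 5, 7], true, 3, [0, 5, 5, 2, 5, 1, 3, 6, 5, 0, 6, 2, 2, 4, 1]⟩) (.leaf ⟨3, [0, 2, 0, 3, 0, 3, 3, 1, 3, 3], false, 3, []⟩)) (.node 35 (.leaf ⟨3, [5, 7, 0, 5, 3, 0, 5, 7], true, 1, [0, 5, 6, 5, 2, 1, 2, 4, 2, 2, 7, 1, 5, 0, 4]⟩) (.leaf ⟨3, [3, 0, 6], false, 3, []⟩))) (.node 38 (.node 37 (.leaf ⟨3, [5, 2, 5, 7, 2, 5, 7, 3], true, 1, [0, 2, 2, 0, 4, 0, 6, 5, 1, 2, 6, 0, 5, 2, 2]⟩) (.leaf ⟨3, [0, 4, 0, 2, 2, 0, 4, 2, 5, 7, 4, 2, 1, 2, 4, 2, 5, 1], false, 3, []⟩)) (.node 39 (.leaf ⟨3, [1, 2, 1, 3, 5, 7], true, 2, [0, 3, 6, 4, 3, 1, 4, 4, 2, 2, 7, 4, 3, 0, 4]⟩) (.leaf ⟨2, [6, 1, 3, 5, 3, 0, 5,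 7, 2], true, 3, [0, 2, 0, 3, 4, 2, 1, 3, 6, 4, 2, 0, 3, 0]⟩)))) (.node 44 (.node 42 (.node 41 (.leaf ⟨3, [4, 4, 7, 4, 1, 5, 7, 2], true, 2, [6, 5, 5, 2, 1, 5, 5, 7, 4, 3, 0, 2, 2, 4, 7]⟩) (.leaf ⟨2, [4, 7, 2, 4, 2, 5, 7, 2], true, 3, [5, 3, 4, 1, 4, 3, 7, 4, 0, 5, 6, 4, 0, 3]⟩)) (.node 43 (.leaf ⟨3, [1, 5, 3, 5, 5, 2, 5, 7], true, 2, [0, 5, 0, 4, 2, 5, 6, 5, 5, 6, 5, 3, 4, 2, 1]⟩) (.leaf ⟨2, [6, 4, 7, 3, 3, 1, 5, 7], true, 3, [0, 5, 0, 4, 3, 3, 5, 6, 5, 1, 4, 0, 5, 1, 2, 4]⟩))) (.node 46 (.node 45 (.leaf ⟨3, [0, 4, 6, 2, 1, 3, 5, 7, 3], true, 3, [6, 4, 3, 0, 3, 5, 6, 4, 2, 6, 0, 4, 1, 5]⟩) (.leaf ⟨3, [5, 1, 5, 3, 5, 7, 3], true, 3, [0, 4, 1, 5, 2, 0, 3, 0, 4, 6, 5, 3, 4,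 2, 5, 5]⟩)) (.node 47 (.leaf ⟨3, [4, 4, 1, 4, 3, 4, 7], true, 3, [0, 3, 0, 6, 5, 0, 4, 7, 5, 0, 5, 0, 3, 0, 2, 2]⟩) (.leaf ⟨3, [5, 3, 1, 3, 5, 7, 3, 3], true, 3, [0, 0, 3, 4, 6, 4, 2, 2, 4, 6, 5, 0, 0, 2, 2, 6, 4]⟩)))))
def ft48 : DT := (.node 56 (.node 52 (.node 50 (.node 49 (.leaf ⟨3, [3, 5, 1, 4, 0, 5, 7, 3], true, 3, [0, 3, 0, 4, 0, 3, 0, 3, 4, 4, 6, 3, 4, 1, 7]⟩) (.leaf ⟨1, [7, 3], true, 4, []⟩)) (.node 51 (.leaf ⟨4, [], true, 1, [0, 0, 3, 6]⟩) (.leaf ⟨4, [0, 0], false, 4, []⟩))) (.node 54 (.node 53 (.leaf ⟨4, [2, 0, 3], false, 4, []⟩) (.leaf ⟨4, [0, 0, 2, 2, 0, 3, 3], false, 4, []⟩)) (.node 55 (.leaf ⟨4, [5, 1, 4, 2, 5, 7, 2], true, 1, [0, 5, 2, 6, 4, 2, 4, 4, 7, 4,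 2, 1, 4, 2, 7]⟩) (.leaf ⟨4, [1, 2, 6, 5, 1, 5, 0, 5, 7, 5, 3, 4, 0, 5], false, 4, []⟩)))) (.node 60 (.node 58 (.node 57 (.leaf ⟨4, [2], true, 2, [0, 3, 3, 0, 2, 2, 1]⟩) (.leaf ⟨2, [3], true, 4, [3, 0, 2]⟩)) (.node 59 (.leaf ⟨4, [7, 2, 2, 0, 5, 3, 0, 5, 7], true, 2, [0, 3, 6, 4, 3, 0, 4, 2, 0, 3, 7, 5, 2, 4, 2]⟩) (.leaf ⟨2, [7, 0, 3, 5, 1, 2, 5, 7], true, 4, [5, 0, 6, 4, 6, 5, 2, 5, 1, 5, 0, 4, 6, 4, 0]⟩))) (.node 62 (.node 61 (.leaf ⟨4, [2, 5, 1, 5, 2, 0, 5, 7], true, 2, [0, 2, 0, 5, 0, 6, 4, 2, 5, 7, 5, 0, 6, 5, 0]⟩) (.leaf ⟨2, [7, 5, 0, 5, 1, 5, 7, 2], true, 4, [3, 1, 5, 5, 3, 6, 4, 3, 4, 7, 1, 5, 1, 5]⟩)) (.node 63 (.leaf ⟨4, [3, 4, 7, 3, 5, 1, 2, 5, 7], true, 3, [0,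 3, 6, 5, 6, 5, 5, 6, 5, 3, 6, 5, 2, 2, 4, 0]⟩) (.leaf ⟨3, [7, 0, 3, 5, 1, 2, 5, 7], true, 4, [3, 3, 4, 2, 0, 3, 6, 4, 2, 7, 1, 3, 4, 7, 4]⟩)))))
def ft64 : DT := (.node 72 (.node 68 (.node 66 (.node 65 (.leaf ⟨4, [7, 5, 2, 5, 7], true, 3, [2, 5, 6, 4, 3, 4, 1, 2, 5, 6, 5, 5, 3, 4]⟩) (.leaf ⟨3, [1, 5, 7, 4, 7, 0, 5, 7], true, 4, [5, 2, 1, 5, 1, 4, 1, 6, 5, 0, 4, 3, 7]⟩)) (.node 67 (.leaf ⟨4, [4, 6, 0, 5, 7, 0, 5, 7, 2], true, 3, [1, 4, 3, 5, 3, 4, 3, 7, 4, 2, 1, 4, 4, 2]⟩) (.leaf ⟨3, [5, 2, 5, 3, 0, 4, 7], true, 4, [4, 1, 6, 4, 1, 6, 4, 1, 3, 6, 4, 3, 3, 5]⟩))) (.node 70 (.node 69 (.leaf ⟨4, [1, 2, 5, 2, 4, 7], true, 3, [0, 3, 1, 4, 0, 3, 4, 2, 6, 4, 1, 2, 2, 0]⟩) (.leaf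 ⟨3, [6, 3, 5, 2, 1, 5, 7, 3], true, 4, [1, 2, 5, 2, 4, 0, 7, 5, 3, 3, 0, 4, 2, 4, 1]⟩)) (.node 71 (.leaf ⟨4, [6, 5, 2, 2, 4, 2, 5, 7], true, 3, [3, 6, 5, 6, 5, 3, 4, 6, 5, 1, 4, 2, 0, 7]⟩) (.leaf ⟨3, [2, 5, 7, 2, 4, 2, 5, 7], true, 4, [0, 4, 3, 1, 5, 2, 6, 5, 0, 7, 5, 1, 6, 5, 3, 1, 2]⟩)))) (.node 76 (.node 74 (.node 73 (.leaf ⟨4, [1, 4, 2, 5, 3, 5, 7, 3, 3], true, 3, [0, 3, 5, 1, 2, 4, 1, 6, 4, 7, 4, 6, 5, 3]⟩) (.leaf ⟨3, [3, 0, 5, 2, 5, 7, 2], true, 4, [3, 4, 0, 5, 2, 2, 4, 1, 3, 6, 0, 2, 5]⟩)) (.node 75 (.leaf ⟨4, [4, 2, 0, 3, 3, 4, 7], true, 3, [3, 5, 6, 5, 1, 4, 3, 3, 5, 0, 3, 0, 4]⟩) (.leaf ⟨3, [3, 5, 7, 2], true, 4, [1, 5, 1, 6, 4, 3, 4, 2, 4, 6, 1, 4, 1, 4]⟩))) (.node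 78 (.node 77 (.leaf ⟨4, [1, 4, 7, 3, 5, 7], true, 3, [4, 2, 0, 4, 0, 5, 5, 6, 4, 2, 0, 4, 2, 4, 7]⟩) (.leaf ⟨3, [6, 5, 1, 2, 5, 1, 5, 7, 3], true, 4, [1, 6, 5, 3, 6, 5, 2, 2, 4, 6, 1, 3, 4, 7, 5]⟩)) (.node 79 (.leaf ⟨4, [3], true, 4, [1, 1, 3]⟩) (.leaf ⟨4, [0, 5, 7, 1, 5, 1, 2, 5, 7], true, 4, [3, 6, 5, 2, 4, 4, 0, 3, 7, 5, 1, 6, 4, 3, 1, 5]⟩)))))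
def ft80 : DT := (.node 88 (.node 84 (.node 82 (.node 81 (.leaf ⟨4, [7, 0, 3, 5, 1, 2, 5, 7, 3], true, 4, [4, 4, 2, 1, 3, 6, 5, 1, 2, 5, 2, 0, 6, 5, 1]⟩) (.leaf ⟨4, [7, 0, 3, 5, 1, 2, 5, 7], true, 4, [5, 7, 4, 3, 5, 2, 2, 4, 2, 5, 6, 4]⟩)) (.node 83 (.leaf ⟨4, [7, 2, 2, 5, 1, 2, 5, 7], true, 4, [2, 1, 3, 4, 7, 5, 3, 4, 3, 5, 2, 4, 7, 4]⟩) (.leaf ⟨4, [5, 7, 5, 3, 5, 5, 7, 3], true, 4, [2, 1, 5, 3, 1, 5, 5, 3, 7, 5, 0, 3, 4, 7, 5]⟩))) (.node 86 (.node 85 (.leaf ⟨4, [1, 5, 6, 3, 5, 7, 3, 3], true, 4, [0, 4, 7, 5, 2, 4, 0, 5, 2, 1, 5, 6, 5, 1, 4, 0]⟩) (.leaf ⟨4, [5, 3, 5, 6, 5, 7, 3], true, 4, [0, 4, 3, 0, 2, 5, 2, 0, 6, 4, 2, 4, 2, 2, 4, 7]⟩)) (.node 87 (.leaf ⟨4, [4, 0, 5,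 6, 4, 0, 5, 7], true, 4, [3, 4, 6, 4, 0, 2, 0, 3, 5, 3, 1, 4, 6, 5, 3]⟩) (.leaf ⟨4, [7, 5, 3, 5, 1, 2, 5, 7, 3], true, 4, [0, 4, 1, 4, 6, 5, 2, 2, 4, 6, 5, 3, 1, 6, 4, 1]⟩)))) (.node 92 (.node 90 (.node 89 (.leaf ⟨4, [1, 4, 3, 5, 2, 4, 7], true, 4, [0, 5, 3, 4, 0, 2, 0, 7, 5, 3, 1, 3, 3, 0]⟩) (.leaf ⟨4, [7, 2, 2, 4, 0, 5, 7, 2], true, 4, [0, 3, 4, 2, 1, 4, 2, 5, 6, 4, 7, 0, 4, 1, 3, 7]⟩)) (.node 91 (.leaf ⟨4, [3, 4, 0, 5, 3, 3, 5, 7], true, 4, [0, 5, 3, 5, 6, 5, 0, 7, 4, 2, 5, 1, 2, 4, 6]⟩) (.leaf ⟨4, [7, 2, 2, 4, 3, 5, 5, 7, 3], true, 4, [2, 4, 4, 6, 5, 0, 4, 0, 5, 2, 0, 3, 3, 6, 4, 3]⟩))) (.node 94 (.node 93 (.leaf ⟨4, [4, 2, 4, 1, 4, 1, 5, 7], true, 4, [0, 5, 5, 3, 5,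 3, 4, 6, 5, 6, 4, 4, 6, 5]⟩) (.leaf ⟨4, [0, 4, 3, 5, 0, 5, 7, 3], true, 4, [0, 3, 6, 5, 2, 4, 0, 2, 6, 4, 2, 0, 2, 4, 2]⟩)) (.node 95 (.leaf ⟨4, [5, 3, 5, 5, 1, 5, 7, 3], true, 4, [5, 2, 5, 3, 0, 4, 2, 6, 5, 2, 0, 3, 3, 5, 5]⟩) (.leaf ⟨4, [5, 2, 5, 3, 0, 4, 7], true, 4, [0, 2, 5, 3, 6, 5, 2, 5, 2, 7, 5, 2, 4, 3]⟩)))))
def ft : DT := (.node 48 (.node 16 ft0 (.node 32 ft16 ft32)) (.node 64 ft48 (.node 80 ft64 ft80)))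
def ks : List (List ℕ) := [[4], [5], [1, 4, 0], [1, 5, 0], [3, 4, 2], [3, 5, 2], [2, 4, 3], [2, 5, 3], [0], [1], [2, 0, 3], [2, 1, 3], [2, 2, 0, 3, 3], [2, 2, 1, 3, 3]]
def kt : List (List ℕ) := [[1, 3, 1, 2, 5, 3, 0, 5, 2, 0], [1, 3, 4, 1, 2, 4, 3, 0, 2, 0], [3, 3, 0, 4, 1, 2, 4, 2], [3, 5, 3, 0, 5, 1, 2, 2], [1, 3, 1, 4, 0, 2, 0], [1, 3, 1, 5, 0, 2, 0], [3, 1, 2, 4, 3, 0, 2], [3, 1, 2, 5, 3, 0, 2], [1, 1, 1], [0, 0, 0], [2, 1, 3, 1, 1], [0, 0, 2, 0, 3], [0, 2, 2, 0, 3, 3, 1], [0, 2, 2, 1, 3, 3, 1]]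
def rs : List (List (List ℕ)) := [[[], [1, 1]], [[1, 1], []], [[3, 3, 0, 2, 2], [3, 3, 0, 2, 2], [0, 0, 3, 3, 0, 2, 2]], [[3, 3, 0, 2, 2], [0, 0, 3, 3, 0, 2, 2], [3, 3, 0, 2, 2]], [[0, 0, 3, 3, 0, 2, 2], [3, 3, 0, 2, 2], [3, 3, 0, 2, 2]], [[1, 6, 3, 5, 1, 2, 5, 7, 2, 5, 3, 1, 5, 0, 3, 0, 2, 0, 3], [1, 5, 7, 0, 5, 3, 0, 5, 7, 1, 5, 0, 4, 3, 3, 5, 3, 1, 3, 3], [5, 7, 1, 5, 1, 2, 5, 7]], [[1, 5, 7, 0, 5, 3, 0, 5, 7, 1, 5, 0, 4, 3, 3, 5, 3, 1, 3, 3], [5, 7, 1, 5, 1, 2, 5, 7], [1, 6, 3, 5, 1, 2, 5, 7, 2, 5, 3, 1, 5, 0, 3, 0, 2, 0, 3]], [[5, 7, 1, 5, 1, 2, 5, 7], [1, 6, 3, 5, 1, 2, 5, 7, 2, 5, 3, 1, 5, 0, 3, 0, 2, 0, 3], [1, 5, 7, 0, 5, 3, 0, 5, 7, 1, 5, 0, 4, 3, 3, 5, 3, 1, 3,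 3]], [[1, 1, 7], [1, 1, 1, 5, 7, 2, 1, 3, 5, 7, 2, 1, 3, 5, 3, 0, 3, 3, 0, 3], [6], [0, 2, 1, 2, 2, 1, 2, 2, 5, 0, 4, 2, 4, 3, 6, 4, 3, 3, 6, 4, 2, 4]], [[1, 1, 1, 5, 7, 2, 1, 3, 5, 7, 2, 1, 3, 5, 3, 0, 3, 3, 0, 3], [6], [0, 2, 1, 2, 2, 1, 2, 2, 5, 0, 4, 2, 4, 3, 6, 4, 3, 3, 6, 4, 2, 4], [1, 1, 7]], [[6], [0, 2, 1, 2, 2, 1, 2, 2, 5, 0, 4, 2, 4, 3, 6, 4, 3, 3, 6, 4, 2, 4], [1, 1, 7], [1, 1, 1, 5, 7, 2, 1, 3, 5, 7, 2, 1, 3, 5, 3, 0, 3, 3, 0, 3]], [[0, 2, 1, 2, 2, 1, 2, 2, 5, 0, 4, 2, 4, 3, 6, 4, 3, 3, 6, 4, 2, 4], [1, 1, 7], [1, 1, 1, 5, 7, 2, 1, 3, 5, 7, 2, 1, 3, 5, 3, 0, 3, 3, 0, 3], [6]], [[2, 0, 3, 1, 3, 3, 1, 3, 4, 2, 2, 4, 2, 6, 4, 3, 3, 6, 4, 2, 4], [0, 3, 3, 1, 4,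 2, 5, 2, 1, 5, 5, 6, 4, 0, 4, 1, 4, 3, 7], [1, 1, 5, 3, 5, 7, 2, 2, 5, 7, 3, 5, 3, 3, 5, 2, 0, 2, 2, 0, 2, 1, 3], [1, 1, 7, 0, 4, 2, 4, 1, 5, 7, 0, 3, 1, 4, 1, 3, 3, 1, 2, 1]], [[0, 3, 3, 1, 4, 2, 5, 2, 1, 5, 5, 6, 4, 0, 4, 1, 4, 3, 7], [1, 1, 5, 3, 5, 7, 2, 2, 5, 7, 3, 5, 3, 3, 5, 2, 0, 2, 2, 0, 2, 1, 3], [1, 1, 7, 0, 4, 2, 4, 1, 5, 7, 0, 3, 1, 4, 1, 3, 3, 1, 2, 1], [2, 0, 3, 1, 3, 3, 1, 3, 4, 2, 2, 4, 2, 6, 4, 3, 3, 6, 4, 2, 4]], [[1, 1, 5, 3, 5, 7, 2, 2, 5, 7, 3, 5, 3, 3, 5, 2, 0, 2, 2, 0, 2, 1, 3], [1, 1, 7, 0, 4, 2, 4, 1, 5, 7, 0, 3, 1, 4, 1, 3, 3, 1, 2, 1], [2, 0, 3, 1, 3, 3, 1, 3, 4, 2, 2, 4, 2, 6, 4, 3, 3, 6, 4, 2, 4], [0, 3, 3, 1, 4, 2, 5, 2, 1, 5, 5, 6, 4, 0, 4,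 1, 4, 3, 7]], [[1, 1, 7, 0, 4, 2, 4, 1, 5, 7, 0, 3, 1, 4, 1, 3, 3, 1, 2, 1], [2, 0, 3, 1, 3, 3, 1, 3, 4, 2, 2, 4, 2, 6, 4, 3, 3, 6, 4, 2, 4], [0, 3, 3, 1, 4, 2, 5, 2, 1, 5, 5, 6, 4, 0, 4, 1, 4, 3, 7], [1, 1, 5, 3, 5, 7, 2, 2, 5, 7, 3, 5, 3, 3, 5, 2, 0, 2, 2, 0, 2, 1, 3]], [[2, 6], [2, 2, 1, 3, 1, 2, 2, 5, 0, 4, 1, 5, 6, 5, 2, 2, 1, 4, 2], [1, 1, 7, 3], [1, 1, 5, 1, 4, 2, 5, 7, 4, 1, 4, 0, 4, 3, 1, 3, 1, 2]], [[2, 2, 1, 3, 1, 2, 2, 5, 0, 4, 1, 5, 6, 5, 2, 2, 1, 4, 2], [1, 1, 7, 3], [1, 1, 5, 1, 4, 2, 5, 7, 4, 1, 4, 0, 4, 3, 1, 3, 1, 2], [2, 6]], [[1, 1, 7, 3], [1, 1, 5, 1, 4, 2, 5, 7, 4, 1, 4, 0, 4, 3, 1, 3, 1, 2], [2, 6], [2, 2, 1, 3, 1, 2, 2, 5, 0, 4, 1, 5, 6, 5, 2, 2,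 1, 4, 2]], [[1, 1, 5, 1, 4, 2, 5, 7, 4, 1, 4, 0, 4, 3, 1, 3, 1, 2], [2, 6], [2, 2, 1, 3, 1, 2, 2, 5, 0, 4, 1, 5, 6, 5, 2, 2, 1, 4, 2], [1, 1, 7, 3]]]
def Ws : List (List (List ℕ)) := [[], [[]], [[7], []], [[7], [7], []], [[7, 3], []]]
def bs : List ℕ := [0, 1, 2, 3, 4, 8]
noncomputable def dP : DP := ⟨ap, 8, bs, invT 26873694793729 8, ks, kt, nthR rs, ft.get, nthR Ws⟩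
def d0 : DL := ⟨0, [[0], [2], [4], [6]], [[0], [2], [4], [6]], [0], idW 8, idW 8, 5859000000, 1⟩

end Cfsg.Agent.H15.Ly
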