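import Cfsg.Agent.H15.Ly.D0
set_option autoImplicit false
set_option maxRecDepth 100000

namespace Cfsg.Agent.H15.Ly
open Cfsg.Agent.H15 Cfsg.Agent.H14

def lo1_S5 : List (List ℕ) := [[0, 0]]
def lo1_T5 : List (List ℕ) := lo1_S5 ++ []
theorem lo1_k5 : stepOk ap 8 19530 id lo1_S5 [] 8 4 = true := by decide +kernel
def lo1_S4 : List (List ℕ) := [[1, 1, 2, 1, 3]]
def lo1_T4 : List (List ℕ) := lo1_S4 ++ lo1_T5
theorem lo1_k4 : stepOk ap 8 19530 id lo1_S4 lo1_T5 4 2 = true := by decide +kernel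
def lo1_S3 : List (List ℕ) := [[1, 1, 2, 1, 3], [0, 3, 0, 5, 1, 2, 1], [3, 1, 2, 4, 3, 0, 2]]
def lo1_T3 : List (List ℕ) := lo1_S3 ++ lo1_T4
theorem lo1_k3 : stepOk ap 8 19530 id lo1_S3 lo1_T4 3 3125 = true := by decide +kernel
def lo1_S2 : List (List ℕ) := [[0, 6, 6], [1, 1, 2, 1, 3]]
def lo1_T2 : List (List ℕ) := lo1_S2 ++ lo1_T3
theorem lo1_k2 : stepOk ap 8 19530 id lo1_S2 lo1_T3 2 3 = true := by decide +kernel
def lo1_S1 : List (List ℕ) := [[0, 6, 6], [1, 1, 2, 1, 3], [0, 2, 2, 0, 3, 3, 1]]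
def lo1_T1 : List (List ℕ) := lo1_S1 ++ lo1_T2
theorem lo1_k1 : stepOk ap 8 19530 id lo1_S1 lo1_T2 1 4 = true := by decide +kernel
def d1 : DL := ⟨1, [[3, 1, 2, 4, 3, 0, 2], [0, 6, 6], [1, 1, 2, 1, 3], [0, 2, 2, 0, 3, 3, 1]], [[10], [12], [16], [18]], [1, 10, 11, 12, 32, 49], lo1_T1, [[12], [16], [18], [12], [16], [16], [8], [10], [16], [14]], 300000, 19530⟩
def lo2_S5 : List (List ℕ) := [[1, 1]]
def lo2_T5 : List (List ℕ) := lo2_S5 ++ []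
theorem lo2_k5 : stepOk ap 8 19530 id lo2_S5 [] 8 4 = true := by decide +kernel
def lo2_S4 : List (List ℕ) := [[1, 1, 2, 1, 3]]
def lo2_T4 : List (List ℕ) := lo2_S4 ++ lo2_T5
theorem lo2_k4 : stepOk ap 8 19530 id lo2_S4 lo2_T5 4 2 = true := by decide +kernel
def lo2_S2 : List (List ℕ) := [[0], [1, 1, 2, 1, 3]]
def lo2_T2 : List (List ℕ) := lo2_S2 ++ lo2_T4
theorem lo2_k2 : stepOk ap 8 19530 id lo2_S2 lo2_T4 2 3 = true := by decide +kernel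
def lo2_S1 : List (List ℕ) := [[0], [0, 3, 0, 2, 2]]
def lo2_T1 : List (List ℕ) := lo2_S1 ++ lo2_T2
theorem lo2_k1 : stepOk ap 8 19530 id lo2_S1 lo2_T2 1 4 = true := by decide +kernel
def lo2_S0 : List (List ℕ) := [[0], [1, 5, 2, 0, 3, 6, 5, 2, 0, 7, 3, 4]]
def lo2_T0 : List (List ℕ) := lo2_S0 ++ lo2_T1
theorem lo2_k0 : stepOk ap 8 19530 id lo2_S0 lo2_T1 0 63 = true := by decide +kernel
def d2 : DL := ⟨2, [[0], [1, 5, 2, 0, 3, 6, 5, 2, 0, 7, 3, 4]], [[38], [42]], [13, 22, 23, 24, 25, 39, 41, 43, 57, 59, 61], lo2_T0, [[38], [42], [38], [30], [38], [34], [34], [32]], 6048, 968750⟩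
def lo3_S5 : List (List ℕ) := [[0, 0]]
def lo3_T5 : List (List ℕ) := lo3_S5 ++ []
theorem lo3_k5 : stepOk ap 8 19530 id lo3_S5 [] 8 4 = true := by decide +kernel
def lo3_S4 : List (List ℕ) := [[1, 1, 2, 1, 3]]
def lo3_T4 : List (List ℕ) := lo3_S4 ++ lo3_T5
theorem lo3_k4 : stepOk ap 8 19530 id lo3_S4 lo3_T5 4 2 = true := by decide +kernel
def lo3_S2 : List (List ℕ) := [[0], [1, 1, 2, 1, 3]]
def lo3_T2 : List (List ℕ) := lo3_S2 ++ lo3_T4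
theorem lo3_k2 : stepOk ap 8 19530 id lo3_S2 lo3_T4 2 3 = true := by decide +kernel
def lo3_S1 : List (List ℕ) := [[0], [0, 0, 0, 3, 3, 0, 2]]
def lo3_T1 : List (List ℕ) := lo3_S1 ++ lo3_T2
theorem lo3_k1 : stepOk ap 8 19530 id lo3_S1 lo3_T2 1 4 = true := by decide +kernel
def lo3_S0 : List (List ℕ) := [[3, 0, 6], [0, 4, 0, 2, 2, 0, 4, 2, 5, 7, 4, 2, 1, 2, 4, 2, 5, 1]]
def lo3_T0 : List (List ℕ) := lo3_S0 ++ lo3_T1
theorem lo3_k0 : stepOk ap 8 19530 id lo3_S0 lo3_T1 0 30 = true := by decide +kernel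
def d3 : DL := ⟨3, [[0], [3, 0, 6], [0, 4, 0, 2, 2, 0, 4, 2, 5, 7, 4, 2, 1, 2, 4, 2, 5, 1]], [[60], [70], [74]], [26, 31, 38, 40, 42, 44, 45, 46, 47, 48, 63, 65, 67, 69, 71, 73, 75, 77], lo3_T0, [[70], [74], [60], [54], [60], [56], [56], [58]], 2880, 2034375⟩
def lo4_S5 : List (List ℕ) := [[0, 0]]
def lo4_T5 : List (List ℕ) := lo4_S5 ++ []
theorem lo4_k5 : stepOk ap 8 19530 id lo4_S5 [] 8 4 = true := by decide +kernel
def lo4_S4 : List (List ℕ) := [[2, 0, 3]]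
def lo4_T4 : List (List ℕ) := lo4_S4 ++ lo4_T5
theorem lo4_k4 : stepOk ap 8 19530 id lo4_S4 lo4_T5 4 2 = true := by decide +kernel
def lo4_S1 : List (List ℕ) := [[2, 0, 3], [0, 0, 2, 2, 0, 3, 3]]
def lo4_T1 : List (List ℕ) := lo4_S1 ++ lo4_T4
theorem lo4_k1 : stepOk ap 8 19530 id lo4_S1 lo4_T4 1 3 = true := by decide +kernel
def lo4_S0 : List (List ℕ) := [[2, 0, 3], [1, 2, 6, 5, 1, 5, 0, 5, 7, 5, 3, 4, 0, 5]]
def lo4_T0 : List (List ℕ) := lo4_S0 ++ lo4_T1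
theorem lo4_k0 : stepOk ap 8 19530 id lo4_S0 lo4_T1 0 42 = true := by decide +kernel
def d4 : DL := ⟨4, [[2, 0, 3], [0, 0, 2, 2, 0, 3, 3], [1, 2, 6, 5, 1, 5, 0, 5, 7, 5, 3, 4, 0, 5]], [[104], [106], [110]], [50, 56, 58, 60, 62, 64, 66, 68, 70, 72, 74, 76, 78, 79, 80, 81, 82, 83, 84, 85, 86, 87, 88, 89, 90, 91, 92, 93, 94, 95], lo4_T0, [[104], [110], [104], [106], [104], [102]], 1008, 5812500⟩

end Cfsg.Agent.H15.Ly
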