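import Cfsg.Agent.H15.Ly.D0
set_option autoImplicit false
set_option maxRecDepth 100000

namespace Cfsg.Agent.H15.Ly
open Cfsg.Agent.H15 Cfsg.Agent.H14

theorem g0 : dP.Good 0 20 := DP.good_of [⟨0, [], [], []⟩,
  ⟨1, [9, 9], [], [⟨0, [], []⟩]⟩,
  ⟨2, [], [], [⟨1, [], []⟩, ⟨0, [5], [0]⟩]⟩,
  ⟨2, [], [], [⟨1, [], []⟩, ⟨0, [1, 5, 0], [2]⟩]⟩,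
  ⟨2, [], [], [⟨1, [], []⟩, ⟨0, [3, 5, 2], [4]⟩]⟩,
  ⟨2, [], [], [⟨1, [], []⟩, ⟨0, [2, 5, 3], [6]⟩]⟩,
  ⟨2, [], [], [⟨1, [], []⟩, ⟨0, [1], [8]⟩]⟩,
  ⟨21, [], [13, 13], []⟩,
  ⟨2, [], [], [⟨1, [], []⟩, ⟨0, [2, 1, 3], [10]⟩]⟩,
  ⟨2, [], [], [⟨1, [], []⟩, ⟨0, [2, 2, 1, 3, 3], [12]⟩]⟩,
  ⟨3, [8, 8], [], [⟨1, [], []⟩, ⟨0, [3], [8, 11, 13]⟩]⟩,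
  ⟨6, [8, 10, 3, 8, 12, 11, 5, 9], [], [⟨1, [], []⟩, ⟨0, [1, 5, 7, 0, 5, 3, 0, 5, 7], [5, 3, 10, 3, 8]⟩]⟩,
  ⟨0, [], [], []⟩,
  ⟨1, [9, 9], [], [⟨12, [], []⟩]⟩,
  ⟨2, [], [], [⟨13, [], []⟩, ⟨12, [4, 19, 10, 16, 11, 6, 4, 11], [10, 13]⟩]⟩,
  ⟨2, [], [], [⟨13, [], []⟩, ⟨12, [4, 8, 7, 15, 9, 18, 17, 4, 7], [11, 13]⟩]⟩,
  ⟨21, [], [28, 31], []⟩,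
  ⟨2, [], [], [⟨13, [], []⟩, ⟨12, [7, 9, 19, 7, 18, 8, 6, 16, 4], [10]⟩]⟩,
  ⟨2, [], [], [⟨13, [], []⟩, ⟨12, [9, 10, 8, 17, 12, 10, 18, 5], [9, 13, 11]⟩]⟩,
  ⟨21, [], [29, 37], []⟩] (by decide +kernel)
theorem g20 : dP.Good 20 40 := DP.good_of [⟨9, [8, 13, 1, 10, 9], [], [⟨1, [], [10, 6, 12, 5, 8, 11, 9]⟩, ⟨0, [5, 0, 4, 7, 2, 5, 7], [1, 1, 11, 7, 12]⟩, ⟨12, [7, 14, 11, 9], [11, 13]⟩]⟩,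
  ⟨2, [5, 2, 0, 3, 6, 5, 7], [], [⟨20, [], []⟩, ⟨12, [7, 12, 8, 10], [4, 12, 9, 6, 12, 11]⟩]⟩,
  ⟨6, [0, 8, 4, 0, 13, 11], [], [⟨13, [], [0]⟩, ⟨12, [16, 5], [8, 12, 2, 11, 9, 6]⟩]⟩,
  ⟨14, [0, 13, 7, 10, 9, 3, 13], [], [⟨13, [], [8, 10, 12, 10, 7, 9, 5]⟩, ⟨12, [11, 4, 6, 4], [8, 13, 4, 10, 4, 12]⟩, ⟨22, [42, 30, 43, 33], [0, 4, 12, 10, 8, 7, 13]⟩]⟩,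
  ⟨14, [2, 5, 10, 7, 10], [], [⟨13, [], [2, 10, 9, 13, 6, 11, 4]⟩, ⟨12, [18, 5, 16, 7], [0, 11, 13, 11, 7, 13, 3]⟩, ⟨23, [42, 37, 34, 42], [12, 11, 9, 7, 10, 13, 2]⟩]⟩,
  ⟨0, [], [], []⟩,
  ⟨1, [9, 9], [], [⟨25, [], []⟩]⟩,
  ⟨2, [], [], [⟨26, [], []⟩, ⟨25, [42, 42, 42, 35, 36, 29, 43, 43, 43], [8, 12, 11, 9]⟩]⟩,
  ⟨2, [], [], [⟨26, [], []⟩, ⟨25, [42, 42, 42, 32, 31, 43, 30, 43, 43], [10]⟩]⟩,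
  ⟨21, [], [57, 57], []⟩,
  ⟨21, [], [54, 57, 55], []⟩,
  ⟨9, [10, 13, 0, 7, 4], [], [⟨11, [], [0, 6, 12, 5, 6]⟩, ⟨12, [19, 13, 4, 11], [0, 13, 5, 11, 13, 11]⟩, ⟨25, [43, 43], [10, 8, 12, 10, 2]⟩]⟩,
  ⟨1, [3, 5, 7, 9, 2, 13], [], [⟨31, [], []⟩]⟩,
  ⟨2, [1, 5, 2, 0, 3, 6, 5, 7], [], [⟨31, [], []⟩, ⟨32, [11, 19, 4, 17, 5, 10, 16, 13, 8], [8, 1, 12, 7, 5]⟩]⟩,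
  ⟨6, [0, 12, 5, 0, 12], [], [⟨12, [], []⟩, ⟨25, [43], [9, 9, 11, 3, 6, 11]⟩]⟩,
  ⟨2, [5, 1, 6, 5, 3, 0, 5, 7], [], [⟨34, [], []⟩, ⟨32, [13, 17, 8, 10], [5, 8, 7, 10, 8, 13, 11, 9]⟩]⟩,
  ⟨16, [13, 2, 11, 5, 9, 13], [], [⟨12, [], [6, 4, 8, 7, 13]⟩, ⟨23, [35, 43, 43, 43], [1, 5, 12, 5, 0, 8]⟩, ⟨25, [34, 43, 43, 43], [0, 12, 7, 9, 2, 11]⟩]⟩,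
  ⟨2, [5, 2, 5, 2, 6, 4, 3, 6], [], [⟨36, [], []⟩, ⟨32, [9, 5, 15], [2, 10, 12, 10, 7, 8, 10]⟩]⟩,
  ⟨6, [8, 10, 8, 12, 7, 0, 11, 9], [], [⟨13, [], [2, 0]⟩, ⟨32, [18, 5, 17, 5], [1, 3, 3, 11, 1]⟩]⟩,
  ⟨1, [2, 9, 9, 6, 9], [], [⟨38, [], []⟩]⟩] (by decide +kernel)
theorem g40 : dP.Good 40 60 := DP.good_of [⟨9, [1, 2, 10, 9, 5], [], [⟨13, [], [9, 3, 10, 4, 3]⟩, ⟨12, [19, 17, 11], [0, 0, 10, 4, 9, 11]⟩, ⟨39, [43, 34, 43, 43, 37], [7, 12, 2, 5]⟩]⟩,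
  ⟨1, [1, 3, 0, 10, 0, 8], [], [⟨40, [], []⟩]⟩,
  ⟨10, [1, 12, 5, 10, 6, 12], [], [⟨13, [], [0, 5, 12, 11, 0, 9]⟩, ⟨12, [10, 12, 8, 4], [10, 9, 4, 10, 4, 12]⟩, ⟨39, [37, 42, 29, 42, 35], [2, 8, 4, 10, 8, 13, 11, 9]⟩]⟩,
  ⟨1, [9, 3, 10, 2, 12, 9], [], [⟨42, [], []⟩]⟩,
  ⟨6, [9, 2, 10, 1, 13, 5], [], [⟨26, [], [0]⟩, ⟨39, [34, 43, 34, 28], [10, 5, 8, 13, 11]⟩]⟩,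
  ⟨9, [12, 1, 3, 3, 10, 9], [], [⟨26, [], [10, 12, 11, 6, 9, 11, 6]⟩, ⟨23, [42, 35, 39, 29], [2, 8, 11, 4, 12, 9]⟩, ⟨43, [42, 42, 36, 29], [1, 10, 12, 9, 5, 10, 5]⟩]⟩,
  ⟨9, [6, 9, 3, 13, 2, 8], [], [⟨26, [], [0, 9, 6, 12, 11, 5]⟩, ⟨22, [35, 42, 32, 29], [8, 10, 8, 13, 5, 11]⟩, ⟨43, [37, 42, 35, 29], [3, 3, 7, 1, 10]⟩]⟩,
  ⟨9, [2, 2, 0, 13, 6], [], [⟨26, [], [6, 12, 7, 12, 6]⟩, ⟨43, [42, 30], [1, 8, 10, 3, 13, 7, 9]⟩, ⟨45, [71, 67, 75, 58, 54], [13, 6, 10, 12, 9, 3]⟩]⟩,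
  ⟨10, [8, 10, 6, 8, 12, 7, 10, 9], [], [⟨26, [], [10, 0, 13, 5, 9, 11]⟩, ⟨13, [32, 43, 43], [8, 10, 0, 8, 12, 11]⟩, ⟨32, [17, 10, 18, 6], [8, 12, 5, 11, 0, 12]⟩]⟩,
  ⟨0, [], [], []⟩,
  ⟨1, [9, 9], [], [⟨49, [], []⟩]⟩,
  ⟨2, [], [], [⟨50, [], []⟩, ⟨49, [8, 6, 14, 11, 6, 8, 8, 10, 6], [8, 8]⟩]⟩,
  ⟨2, [], [], [⟨50, [], []⟩, ⟨49, [8, 10, 19, 7, 12, 18, 6, 9, 6], [9, 9, 11]⟩]⟩,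
  ⟨2, [], [], [⟨50, [], []⟩, ⟨49, [4, 8, 19, 17, 13, 11, 18, 5, 13, 17, 19, 8, 5], [13]⟩]⟩,
  ⟨17, [0, 0, 5, 11, 2, 9], [], [⟨1, [], [0, 5, 8, 10, 7]⟩, ⟨0, [3, 1, 3, 5, 2, 0, 5, 7], [10, 9, 4, 11, 13, 11, 4]⟩, ⟨49, [12, 16, 10, 8, 19, 5], [10, 12]⟩]⟩,
  ⟨2, [5, 1, 4, 2, 5, 2, 7], [], [⟨54, [], []⟩, ⟨49, [4, 15, 6, 5], [6, 4, 10, 8, 13, 11, 4]⟩]⟩,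
  ⟨3, [8, 8], [], [⟨13, [], []⟩, ⟨49, [], [8, 11, 13]⟩]⟩,
  ⟨1, [8, 11, 13], [], [⟨56, [], []⟩]⟩,
  ⟨6, [7, 8, 10, 9, 7, 12, 10, 9], [], [⟨13, [], [2]⟩, ⟨49, [16, 4, 19], [8, 1, 10, 3, 12, 11, 9]⟩]⟩,
  ⟨1, [12, 11, 2, 8, 11, 5, 12], [], [⟨58, [], []⟩]⟩] (by decide +kernel)
theorem g60 : dP.Good 60 80 := DP.good_of [⟨9, [9, 11, 6, 6], [], [⟨13, [], [11, 9, 6, 11, 5, 12]⟩, ⟨12, [16, 7, 5, 5], [9, 11, 6, 12, 11, 4]⟩, ⟨59, [43, 36, 42, 42, 32, 29], [10, 5, 5, 10, 6]⟩]⟩,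
  ⟨1, [0, 10, 8, 13, 7, 12], [], [⟨60, [], []⟩]⟩,
  ⟨6, [3, 10, 9, 4, 13, 0], [], [⟨26, [], [2]⟩, ⟨59, [35, 43, 38, 35], [13, 6, 8, 4, 10, 12]⟩]⟩,
  ⟨1, [0, 10, 6, 8, 13, 11], [], [⟨62, [], []⟩]⟩,
  ⟨9, [8, 13, 3, 10, 9, 5, 13], [], [⟨26, [], [12, 7, 11, 6, 12, 9]⟩, ⟨23, [42, 39, 35, 28], [2, 8, 10, 9, 13, 6]⟩, ⟨61, [33, 43, 43, 31, 29], [10, 1, 8, 11, 5, 13]⟩]⟩,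
  ⟨1, [0, 8, 6, 11, 4, 8], [], [⟨64, [], []⟩]⟩,
  ⟨9, [3, 12, 4, 9, 2, 10], [], [⟨26, [], [1, 7, 8, 0, 10, 13]⟩, ⟨23, [38, 35, 43, 43, 34], [1, 2, 11, 7, 13, 11]⟩, ⟨61, [42, 38, 37], [0, 10, 0, 12, 10, 2, 8, 10]⟩]⟩,
  ⟨1, [3, 6, 12, 2, 10, 8], [], [⟨66, [], []⟩]⟩,
  ⟨9, [1, 10, 13, 6, 6], [], [⟨26, [], [8, 10, 8, 4, 13, 6, 10]⟩, ⟨22, [32, 43], [1, 9, 9, 6, 1, 9]⟩, ⟨59, [35, 42, 42, 31, 36], [1, 11, 1, 3, 12, 11]⟩]⟩,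
  ⟨1, [1, 2, 10, 9, 3, 12], [], [⟨68, [], []⟩]⟩,
  ⟨9, [0, 10, 13, 6, 11, 2], [], [⟨26, [], [0, 7, 5, 12, 6, 9]⟩, ⟨41, [34, 43, 43, 30, 35], [7, 8, 13, 7]⟩, ⟨69, [55, 67, 75, 57], [4, 13, 11, 4]⟩]⟩,
  ⟨1, [8, 10, 0, 12, 2], [], [⟨70, [], []⟩]⟩,
  ⟨9, [8, 12, 3], [], [⟨26, [], [3, 13, 2, 8, 4, 11]⟩, ⟨24, [33, 43], [3, 12, 11]⟩, ⟨59, [34, 43, 28, 42, 28], [5, 8, 13, 4, 1]⟩]⟩,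
  ⟨1, [9, 5, 9, 11, 9, 3], [], [⟨72, [], []⟩]⟩,
  ⟨9, [10, 8, 0, 6, 5], [], [⟨26, [], [5, 8, 10, 8, 12, 11]⟩, ⟨39, [35, 42, 28, 43, 43], [9, 5, 12, 11, 3]⟩, ⟨69, [67, 60, 57, 67], [9, 13, 2, 11, 1, 13]⟩]⟩,
  ⟨1, [4, 8, 12, 11, 6, 8, 12], [], [⟨74, [], []⟩]⟩,
  ⟨9, [6, 9, 4, 0, 9], [], [⟨26, [], [0, 10, 5, 13, 5, 8, 10]⟩, ⟨39, [42, 30], [11, 6, 8, 0, 11]⟩, ⟨69, [75, 61, 71, 71], [8, 10, 1, 2, 12, 10, 9]⟩]⟩,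
  ⟨1, [1, 11, 6, 6, 11, 13], [], [⟨76, [], []⟩]⟩,
  ⟨3, [8, 10, 13], [], [⟨50, [], []⟩, ⟨49, [19], [8, 8]⟩]⟩,
  ⟨6, [0, 8, 4, 0, 13, 11], [], [⟨50, [], [0]⟩, ⟨49, [12, 5], [8, 12, 2, 11, 9, 6]⟩]⟩] (by decide +kernel)
theorem g80 : dP.Good 80 96 := DP.good_of [⟨6, [9, 2, 6, 4], [], [⟨50, [], [2]⟩, ⟨49, [12, 16, 18, 7], [2, 2, 10, 9, 2]⟩]⟩,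
  ⟨1, [0, 8, 8, 10, 0, 7, 8], [], [⟨80, [], []⟩]⟩,
  ⟨6, [10, 9, 13, 1, 2], [], [⟨50, [], [6, 10]⟩, ⟨49, [12, 6, 17, 19], [1, 5, 11, 3, 7]⟩]⟩,
  ⟨9, [0, 8, 6, 6, 1], [], [⟨50, [], [3, 8, 10, 13, 11, 7]⟩, ⟨32, [14, 10, 9], [0, 8, 7, 10, 3, 8]⟩, ⟨71, [70, 54, 67, 57], [0, 10, 2, 9, 5, 12, 10]⟩]⟩,
  ⟨9, [1, 5, 9, 9, 6, 11], [], [⟨50, [], [0, 5, 8, 11, 7, 8, 13]⟩, ⟨49, [8, 4, 16, 19, 11], [10, 3, 13, 11, 3, 8]⟩, ⟨81, [110, 105, 111, 107, 111, 104], [5, 10, 12, 0, 7]⟩]⟩,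
  ⟨9, [1, 11, 2, 11, 13, 6], [], [⟨50, [], [0, 3, 8, 5, 11, 5]⟩, ⟨32, [12, 5], [6, 5, 9, 7, 10]⟩, ⟨77, [54, 61, 75, 67], [8, 10, 12, 7, 8, 4]⟩]⟩,
  ⟨9, [0, 12, 0, 6, 11], [], [⟨50, [], [10, 9, 3, 5, 10]⟩, ⟨12, [19, 6, 16, 5], [4, 11, 2, 8, 5]⟩, ⟨61, [32, 29], [10, 8, 12, 2, 10, 7]⟩]⟩,
  ⟨1, [0, 2, 7, 8, 5], [], [⟨86, [], []⟩]⟩,
  ⟨9, [7, 11, 5, 0], [], [⟨50, [], [0, 10, 12, 11, 3, 8, 6]⟩, ⟨12, [18, 17, 7, 5], [10, 8, 12, 2, 11, 2, 9]⟩, ⟨59, [43, 28, 42, 42, 32], [0, 13, 2, 13, 3, 7]⟩]⟩,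
  ⟨9, [13, 1, 11, 2], [], [⟨50, [], [3, 11, 9, 5, 11]⟩, ⟨49, [18, 6, 4], [13, 5, 2, 7, 0]⟩, ⟨87, [110, 106, 103, 110, 105], [12, 10, 4, 8, 1, 4]⟩]⟩,
  ⟨9, [8, 12, 0, 3, 9, 11], [], [⟨50, [], [2, 10, 1, 7, 8, 13, 11]⟩, ⟨49, [18, 8, 16, 19, 9], [2, 8, 11, 3, 13, 11, 9]⟩, ⟨83, [110, 107, 110, 105, 103], [8, 12, 0, 11, 3, 12]⟩]⟩,
  ⟨1, [1, 9, 6, 11, 0, 13], [], [⟨90, [], []⟩]⟩,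
  ⟨9, [8, 8, 10, 0, 8], [], [⟨50, [], [0, 10, 13, 6, 5, 9]⟩, ⟨49, [18, 4, 17, 5], [0, 11, 5, 7, 9]⟩, ⟨80, [110, 106, 111, 107], [10, 1, 8, 12, 10, 8, 5]⟩]⟩,
  ⟨9, [0, 2, 8, 10, 7, 13], [], [⟨50, [], [8, 11, 13, 11, 5, 9, 7, 11]⟩, ⟨32, [18, 5, 16, 6], [8, 10, 12, 7, 1, 9, 11]⟩, ⟨73, [75, 54, 67, 61], [13, 5, 9, 9]⟩]⟩,
  ⟨9, [0, 6, 12, 10, 6, 9], [], [⟨50, [], [1, 9, 11, 9, 5, 5]⟩, ⟨49, [17, 5, 6, 19], [10, 3, 12, 9, 7, 10]⟩, ⟨91, [111], [0, 0, 3, 10, 8, 1]⟩]⟩,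
  ⟨1, [6, 8, 8, 12, 0], [], [⟨94, [], []⟩]⟩] (by decide +kernel)
theorem dgood : dP.Good 0 96 := (DP.Good.append (DP.Good.append g0 g20) (DP.Good.append g40 (DP.Good.append g60 g80)))

end Cfsg.Agent.H15.Ly
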