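import Cfsg.Agent.H15.Ly.H
import Cfsg.Prelude.Def_Sporadic
import Cfsg.Agent.H15.Ly.CS0
import Cfsg.Agent.H15.Ly.CS1
import Cfsg.Agent.H15.Ly.CS2
import Cfsg.Agent.H15.Ly.CS3
set_option autoImplicit false
set_option maxRecDepth 100000

namespace Cfsg.Agent.H15.Ly
open Cfsg.Agent.H15 Cfsg.Agent.H14

theorem MMok : MM.Ok := ⟨MMkc, (RAll.append (RAll.append (RAll.append MMk0 MMk11) (RAll.append MMk15 MMk20)) (RAll.append (RAll.append MMk26 MMk32) (RAll.append MMk35 MMk38)))⟩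
noncomputable def MMA := MMok.tab
theorem MMt : MT MMA MM.bs MM.iw := MMok.mt
theorem sMhi : ∀ l, cut 10 MMA.e (invT fT 10 l) = (cut 10 MMA.e l)⁻¹ := MMt.hi (by decide +kernel)
theorem sM : Sat (cut 10 MMA.e) (invT fT 10) BF :=
  (show (BF.drop 0).take 10 ++ ((BF.drop 10).take 1 ++ ((BF.drop 11).take 1 ++ ((BF.drop 12).take 2 ++ ((BF.drop 14).take 1 ++ ((BF.drop 15).take 1 ++ ((BF.drop 16).take 1 ++ ((BF.drop 17).take 1 ++ ((BF.drop 18).take 2 ++ ((BF.drop 20).take 3 ++ ((BF.drop 23).take 1 ++ ((BF.drop 24).take 1 ++ ((BF.drop 25).take 2 ++ ((BF.drop 27).take 2 ++ ((BF.drop 29).take 1 ++ ((BF.drop 30).take 1 ++ ((BF.drop 31).take 1 ++ ((BF.drop 32).take 1 ++ ((BF.drop 33).take 1 ++ ((BF.drop 34).take 1 ++ ((BF.drop 35).take 1 ++ ((BF.drop 36).take 1 ++ ((BF.drop 37).take 1 ++ ((BF.drop 38).take 1 ++ ((BF.drop 39).take 3 ++ ((BF.drop 42).take 1 ++ ((BF.drop 43).take 30 ++ ((BF.drop 73).take 3 ++ ((BF.drop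 76).take 3 ++ ((BF.drop 79).take 3 ++ ((BF.drop 82).take 1 ++ ((BF.drop 83).take 1 ++ ((BF.drop 84).take 1 ++ ((BF.drop 85).take 1))))))))))))))))))))))))))))))))) = BF by decide +kernel) ▸ ((MMt.sat sMhi sM0).app ((MMt.sat sMhi sM1).app ((MMt.sat sMhi sM2).app ((MMt.sat sMhi sM3).app ((MMt.sat sMhi sM4).app ((MMt.sat sMhi sM5).app ((MMt.sat sMhi sM6).app ((MMt.sat sMhi sM7).app ((MMt.sat sMhi sM8).app ((MMt.sat sMhi sM9).app ((MMt.sat sMhi sM10).app ((MMt.sat sMhi sM11).app ((MMt.sat sMhi sM12).app ((MMt.sat sMhi sM13).app ((MMt.sat sMhi sM14).app ((MMt.sat sMhi sM15).app ((MMt.sat sMhi sM16).app ((MMt.sat sMhi sM17).app ((MMt.sat sMhi sM18).app ((MMt.sat sMhi sM19).app ((MMt.sat sMhi sM20).app ((MMt.sat sMhi sM21).app ((MMt.sat sMhi sM22).app ((MMt.sat sMhi sM23).app ((MMt.sat sMhi sM24).app ((MMt.sat sMhi sM25).app ((MMt.sat sMhi sM26).app ((MMt.sat sMhi sM27).app ((MMt.sat sMhi sM28).app ((MMt.sat sMhi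 sM29).app ((MMt.sat sMhi sM30).app ((MMt.sat sMhi sM31).app ((MMt.sat sMhi sM32).app (MMt.sat sMhi sM33))))))))))))))))))))))))))))))))))
theorem mcc : (allL (idW 8) (fun w => eqOn (fun x l => tr MM.ap (nthW mcs l) x) 8 MM.bs (appL w mcz) (appL mcz w)) &&
    neAt (fun x l => tr MM.ap (nthW mcs l) x) 8 (Nat.shiftLeft 1 (Nat.mul MM.w MM.m)) (2 ^ 0) [0, 8 - 1] [8 - 1, 0]) = true :=
  Bool.and_eq_true_iff.mpr ⟨allL_idW (RAll.append (RAll.append mcc0 mcc2) (RAll.append mcc4 mcc6)), mcn⟩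
noncomputable def mcA := MMA.comp mcs (by decide +kernel)
theorem mcb : mcA.Base ⊤ MM.bs := MMt.base.comp _ _
theorem mcq : Sat (fun l => QuotientGroup.mk' (Subgroup.normalClosure {lprod mcA.own.e mcz}) (lprod mcA.own.e (nthW (idW mcA.L) l)))
    (invT McP.pT (idW mcA.L).length) McP.pB :=
  (show (McP.pB.drop 0).take 10 ++ ((McP.pB.drop 10).take 5 ++ ((McP.pB.drop 15).take 3 ++ ((McP.pB.drop 18).take 3))) = McP.pB by decide +kernel) ▸ ((mcb.satq mcz [0, 1, 2] mcq0).app ((mcb.satq mcz [0, 1, 2] mcq1).app ((mcb.satq mcz [0, 1, 2] mcq2).app (mcb.satq mcz [0, 1, 2] mcq3))))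
theorem alc : (allL (idW 18) (fun w => eqOn (fun x l => tr MM.ap (nthW als l) x) 18 MM.bs (appL w alz) (appL alz w)) &&
    neAt (fun x l => tr MM.ap (nthW als l) x) 18 (Nat.shiftLeft 1 (Nat.mul MM.w MM.m)) (2 ^ 0) [0, 18 - 1] [18 - 1, 0]) = true :=
  Bool.and_eq_true_iff.mpr ⟨allL_idW (RAll.append (RAll.append (RAll.append alc0 alc2) (RAll.append alc4 alc6)) (RAll.append (RAll.append alc8 alc10) (RAll.append alc12 (RAll.append alc14 alc16)))), aln⟩
noncomputable def alA := MMA.comp als (by decide +kernel)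
theorem alb : alA.Base ⊤ MM.bs := MMt.base.comp _ _
theorem alq : Sat (fun l => QuotientGroup.mk' (Subgroup.normalClosure {lprod alA.own.e alz}) (lprod alA.own.e (nthW (idW alA.L) l)))
    (invT Alt11.pT (idW alA.L).length) Alt11.pB :=
  (show (Alt11.pB.drop 0).take 9 ++ ((Alt11.pB.drop 9).take 7 ++ ((Alt11.pB.drop 16).take 7 ++ ((Alt11.pB.drop 23).take 7 ++ ((Alt11.pB.drop 30).take 7 ++ ((Alt11.pB.drop 37).take 7 ++ ((Alt11.pB.drop 44).take 1)))))) = Alt11.pB by decide +kernel) ▸ ((alb.satq alz [1, 0] alq0).app ((alb.satq alz [1, 0] alq1).app ((alb.satq alz [1, 0] alq2).app ((alb.satq alz [1, 0] alq3).app ((alb.satq alz [1, 0] alq4).app ((alb.satq alz [1, 0] alq5).app (alb.satq alz [1, 0] alq6)))))))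
instance nzM : NeZero MM.p := ⟨by decide⟩
noncomputable def ψ : G →* GL (Fin MM.m) (ZMod MM.p) := (hom sM).choose
theorem hψ : ∀ l, ψ (E l) = cut 10 MMA.e l := (hom sM).choose_spec
theorem rψ : ∀ l, MMA.e l ∈ ψ.range := MMt.range ψ hψ (by decide +kernel)
theorem ψφ {w : List ℕ} (h : okW 8 w = true) : ψ (φ (lprod A.e w)) = lprod MMA.e w := map_cut hφ hψ (by norm_num) h
theorem ne {w : List ℕ} (h : okW 8 w = true) {x : ℕ} (h' : neAt MMA.ap MMA.L MMA.n x w [] = true) :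
    ψ (φ (lprod A.e w)) ≠ 1 := ψφ h ▸ MMA.ne_of_neAt h'
theorem mc : lprod mcA.own.e mcz ∈ Subgroup.center _ ∧ ∃ f : cl mcA.e mcA.L →* McP.S, Function.Surjective f ∧
    f.ker = Subgroup.zpowers (lprod mcA.own.e mcz) :=
  have := McP.simple
  let ⟨a, f, b, c, _⟩ := mcb.cover mcz _ mcc mcq McP.topS McP.satS McP.bnd
  ⟨a, f, b, c⟩
theorem al : lprod alA.own.e alz ∈ Subgroup.center _ ∧ ∃ f : cl alA.e alA.L →* alternatingGroup (Fin 11),
    Function.Surjective f ∧ f.ker = Subgroup.zpowers (lprod alA.own.e alz) :=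
  have := (center_alt (n := 11) (by norm_num)).1
  let ⟨_, h1, h2⟩ := Alt11.pack
  let ⟨a, f, b, c, _⟩ := alb.cover alz _ alc alq h1 h2 Alt11.bnd
  ⟨a, f, b, c⟩
theorem mce : (lprod mcA.own.e mcz).1 = ψ (φ (lprod A.e gM)) :=
  (TabAct.own_xw MMt.base _ (by decide) mcg).trans (ψφ (by decide)).symm
theorem ale : (lprod alA.own.e alz).1 = ψ (φ (lprod A.e gT)) :=
  (TabAct.own_xw MMt.base _ (by decide) alg).trans (ψφ (by decide)).symm
theorem mco : orderOf (lprod mcA.own.e mcz) = 3 ∧ orderOf (lprod A.e gM) = 3 :=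
  orderOf_of_map (ψ.comp φ) mce (base.pow (by decide +kernel)) (ne (by decide) neM)
theorem alo : orderOf (lprod alA.own.e alz) = 2 ∧ orderOf (lprod A.e gT) = 2 :=
  orderOf_of_map (ψ.comp φ) ale (base.pow (by decide +kernel)) (ne (by decide) neT)
theorem mcl : cl mcA.e mcA.L ≤ ψ.range := TabAct.comp_le _ rψ
theorem all : cl alA.e alA.L ≤ ψ.range := TabAct.comp_le _ rψ
theorem mcN : Nat.card (cl mcA.e mcA.L) = 3 * 898128000 :=
  let ⟨_, _, b, c⟩ := mc
  by rw [card_of_cover b c, mco.1, McP.card]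
theorem alN : Nat.card (cl alA.e alA.L) = 2 * 19958400 :=
  let ⟨_, _, b, c⟩ := al
  by rw [card_of_cover b c, alo.1, Alt11.card]
theorem d37 : 37 * 1 ∣ Nat.card ψ.range := (TabAct.dvd_step (A := MMA) dvd_one_gp x37).trans
  (Subgroup.card_dvd_of_le (gp_le.mpr fun _ _ => lprod_mem fun a _ => rψ a))
theorem d67 : 67 * 1 ∣ Nat.card ψ.range := (TabAct.dvd_step (A := MMA) dvd_one_gp x67).trans
  (Subgroup.card_dvd_of_le (gp_le.mpr fun _ _ => lprod_mem fun a _ => rψ a))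
theorem dvd : 8835156 * 5859000000 ∣ Nat.card G := by
  have h1 : 5859000000 ∣ Nat.card G := by
    rw [← le_antisymm cardΓ (low0.trans (Subgroup.card_le_card_group _))]
    exact Subgroup.card_dvd_of_injective φ (inj_simple φ (a := lprod A.e gT) fun c =>
      ne (by decide) neT (by rw [c, map_one]))
  exact Dvd.dvd.trans (by decide +kernel) (Nat.lcm_dvd (Nat.lcm_dvd h1 (dvd_of_le_range ψ mcl mcN.symm.dvd)) (Nat.lcm_dvd
    (dvd_of_le_range ψ all alN.symm.dvd) (Nat.lcm_dvd (dvd_of_le_range ψ le_rfl d37) (dvd_of_le_range ψ le_rfl d67))))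
theorem fin : Finite G ∧ Nat.card G = 8835156 * 5859000000 ∧ φ.range.index = 8835156 ∧ Nat.card φ.range = 5859000000 ∧
    Function.Injective φ ∧ IsCoatom φ.range ∧ (∀ N : Subgroup G, N.Normal → N ≤ φ.range → N = ⊥) ∧
      ∀ q ∈ ds.map fun d => (dh.p d.i, d.b), ∀ (T : Subgroup Γ) (m : ℕ), (∀ γ ∈ T, φ γ • q.1 = q.1) → m ≤ Nat.card T →
        5859000000 ≤ q.2 * m → T = (MulAction.stabilizer G q.1).comap φ ∧ Nat.card T ≤ m :=
  dce_fin base trans0 pok.full cov.1 (by rw [List.map_map]; exact (by decide +kernel : (ds.map (·.b)).sum = 8835156)) cardΓ dvd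
    (by norm_num) (by
      rw [List.map_map]
      exact (by decide +kernel : ∀ s ∈ subs (ds.map (·.b)), s ∣ 8835156 → s = 1 ∨ s = 8835156))
    (List.mem_map_of_mem (a := d1) (by simp [ds])) (st1 ▸ cov.2 d1 (by simp [ds]))
instance finG : Finite G := fin.1
theorem ψ_inj : Function.Injective ψ := inj_of_coatom fin.2.2.2.2.2.1 fin.2.2.2.2.2.2.1 ψ d37 (by rw [fin.2.2.2.1]; norm_num)
theorem simple : IsSimpleGroup G :=
  simple_dce' (q := 11) (m := 5) (k := 3) fin.2.2.2.2.2.1 fin.2.2.2.2.2.2.1 ψ_inj (rψ 38)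
    (by rw [← lprod_single (E := MMA.e)]; exact MMt.base.pow g11a) fin.2.2.2.1
    (by norm_num) (by norm_num) (lprod A.e [2, 0, 3, 1]) (by rw [ψφ (by decide), ← lprod_cons]; exact MMt.base.pow g11b)
    (base.pow (by decide +kernel)) (by norm_num) fun c => ne (by decide) neI (by rw [c, map_one, map_one])
theorem isLy : IsLy G := ⟨simple, fin.2.1⟩

end Cfsg.Agent.H15.Ly
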