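import Cfsg.Agent.H15.Ly.D0
set_option autoImplicit false
set_option maxRecDepth 100000

namespace Cfsg.Agent.H15.Ly
open Cfsg.Agent.H15 Cfsg.Agent.H14

def kcS4 : List (List ℕ) := [[8, 8]]
def kcT4 : List (List ℕ) := kcS4 ++ []
theorem kck4 : stepOk (fun x l => tr ap (nthW ks l) x) 14 19530 id kcS4 [] 8 4 = true := by decide +kernel
def kcS3 : List (List ℕ) := [[10]]
def kcT3 : List (List ℕ) := kcS3 ++ kcT4
theorem kck3 : stepOk (fun x l => tr ap (nthW ks l) x) 14 19530 id kcS3 kcT4 4 2 = true := by decide +kernel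
def kcS2 : List (List ℕ) := [[0], [2], [4], [6]]
def kcT2 : List (List ℕ) := kcS2 ++ kcT3
theorem kck2 : stepOk (fun x l => tr ap (nthW ks l) x) 14 19530 id kcS2 kcT3 3 3125 = true := by decide +kernel
def kcS1 : List (List ℕ) := [[8, 10]]
def kcT1 : List (List ℕ) := kcS1 ++ kcT2
theorem kck1 : stepOk (fun x l => tr ap (nthW ks l) x) 14 19530 id kcS1 kcT2 2 3 = true := by decide +kernel
def kcS0 : List (List ℕ) := [[12, 10, 8]]
def kcT0 : List (List ℕ) := kcS0 ++ kcT1
theorem kck0 : stepOk (fun x l => tr ap (nthW ks l) x) 14 19530 id kcS0 kcT1 1 4 = true := by decide +kernel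
theorem tr0 : stepOk ap 8 19530 id [[0], [2], [4], [6]] [] 0 19530 = true := by decide +kernel

end Cfsg.Agent.H15.Ly
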