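import Cfsg.Agent.H15.Ly.D1
set_option autoImplicit false
set_option maxRecDepth 100000

namespace Cfsg.Agent.H15.Ly
open Cfsg.Agent.H15 Cfsg.Agent.H14

theorem lv0a : (okS dP.L d0.S && dP.gains 96 d0.i d0.S d0.sws && dP.cov 96 19530 d0.i [0, 1, 2, 3, 4] d0.S d0.es 0) = true := by decide +kernel
theorem lv0b : (dP.gains 96 d0.i d0.T d0.tws && Nat.ble 5859000000 (d0.b * d0.m) && Nat.blt 0 d0.m) = true := by decide +kernel
theorem lv3a : (okS dP.L d3.S && dP.gains 96 d3.i d3.S d3.sws && dP.cov 96 19530 d3.i [0, 1, 2, 3, 4] d3.S d3.es 0) = true := by decide +kernel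
theorem lv3b : (dP.gains 96 d3.i d3.T d3.tws && Nat.ble 5859000000 (d3.b * d3.m) && Nat.blt 0 d3.m) = true := by decide +kernel

end Cfsg.Agent.H15.Ly
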