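import Cfsg.Agent.H15.Ly.D1
set_option autoImplicit false
set_option maxRecDepth 100000

namespace Cfsg.Agent.H15.Ly
open Cfsg.Agent.H15 Cfsg.Agent.H14

theorem lv1a : (okS dP.L d1.S && dP.gains 96 d1.i d1.S d1.sws && dP.cov 96 19530 d1.i [0, 1, 2, 3, 4] d1.S d1.es 0) = true := by decide +kernel
theorem lv1b : (dP.gains 96 d1.i d1.T d1.tws && Nat.ble 5859000000 (d1.b * d1.m) && Nat.blt 0 d1.m) = true := by decide +kernel
theorem lv4a : (okS dP.L d4.S && dP.gains 96 d4.i d4.S d4.sws && dP.cov 96 19530 d4.i [0, 1, 2, 3, 4] d4.S d4.es 0) = true := by decide +kernel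
theorem lv4b : (dP.gains 96 d4.i d4.T d4.tws && Nat.ble 5859000000 (d4.b * d4.m) && Nat.blt 0 d4.m) = true := by decide +kernel

end Cfsg.Agent.H15.Ly
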