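import Cfsg.Agent.H15.Ly.D1
set_option autoImplicit false
set_option maxRecDepth 100000

namespace Cfsg.Agent.H15.Ly
open Cfsg.Agent.H15 Cfsg.Agent.H14

theorem lv2a : (okS dP.L d2.S && dP.gains 96 d2.i d2.S d2.sws && dP.cov 96 19530 d2.i [0, 1, 2, 3, 4] d2.S d2.es 0) = true := by decide +kernel
theorem lv2b : (dP.gains 96 d2.i d2.T d2.tws && Nat.ble 5859000000 (d2.b * d2.m) && Nat.blt 0 d2.m) = true := by decide +kernel

end Cfsg.Agent.H15.Ly
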