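import Cfsg.Agent.H15.Ly.T
set_option autoImplicit false
set_option maxRecDepth 100000

namespace Cfsg.Agent.H15.Ly
open Cfsg.Agent.H15 Cfsg.Agent.H14

theorem hperm_f0_0 : RAll (permAt ap (invT pT 8) 19530 8) 0 5000 := RAll.of (by decide +kernel)
theorem hperm_f0_5000 : RAll (permAt ap (invT pT 8) 19530 8) 5000 10000 := RAll.of (by decide +kernel)
theorem hperm_f0_10000 : RAll (permAt ap (invT pT 8) 19530 8) 10000 15000 := RAll.of (by decide +kernel)
theorem hperm_f0_15000 : RAll (permAt ap (invT pT 8) 19530 8) 15000 19530 := RAll.of (by decide +kernel)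
theorem hperm_f0 : RAll (permAt ap (invT pT 8) 19530 8) 0 19530 :=
  (RAll.append (RAll.append hperm_f0_0 hperm_f0_5000) (RAll.append hperm_f0_10000 hperm_f0_15000))

end Cfsg.Agent.H15.Ly
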