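import Cfsg.Agent.H15.Ly.T
set_option autoImplicit false
set_option maxRecDepth 100000

namespace Cfsg.Agent.H15.Ly
open Cfsg.Agent.H15 Cfsg.Agent.H14

theorem hrel_f0_0 : RAll (relsAt ap pB) 0 1000 := RAll.of (by decide +kernel)
theorem hrel_f0_1000 : RAll (relsAt ap pB) 1000 2000 := RAll.of (by decide +kernel)
theorem hrel_f0_2000 : RAll (relsAt ap pB) 2000 3000 := RAll.of (by decide +kernel)
theorem hrel_f0_3000 : RAll (relsAt ap pB) 3000 4000 := RAll.of (by decide +kernel)
theorem hrel_f0_4000 : RAll (relsAt ap pB) 4000 5000 := RAll.of (by decide +kernel)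
theorem hrel_f0 : RAll (relsAt ap pB) 0 5000 :=
  (RAll.append (RAll.append hrel_f0_0 hrel_f0_1000) (RAll.append hrel_f0_2000 (RAll.append hrel_f0_3000 hrel_f0_4000)))

end Cfsg.Agent.H15.Ly
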