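import Cfsg.Agent.H15.Ly.T
set_option autoImplicit false
set_option maxRecDepth 100000

namespace Cfsg.Agent.H15.Ly
open Cfsg.Agent.H15 Cfsg.Agent.H14

theorem hrel_f1_5000 : RAll (relsAt ap pB) 5000 6000 := RAll.of (by decide +kernel)
theorem hrel_f1_6000 : RAll (relsAt ap pB) 6000 7000 := RAll.of (by decide +kernel)
theorem hrel_f1_7000 : RAll (relsAt ap pB) 7000 8000 := RAll.of (by decide +kernel)
theorem hrel_f1_8000 : RAll (relsAt ap pB) 8000 9000 := RAll.of (by decide +kernel)
theorem hrel_f1_9000 : RAll (relsAt ap pB) 9000 10000 := RAll.of (by decide +kernel)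
theorem hrel_f1 : RAll (relsAt ap pB) 5000 10000 :=
  (RAll.append (RAll.append hrel_f1_5000 hrel_f1_6000) (RAll.append hrel_f1_7000 (RAll.append hrel_f1_8000 hrel_f1_9000)))

end Cfsg.Agent.H15.Ly
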