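import Cfsg.Agent.H15.Ly.T
set_option autoImplicit false
set_option maxRecDepth 100000

namespace Cfsg.Agent.H15.Ly
open Cfsg.Agent.H15 Cfsg.Agent.H14

theorem hrel_f2_10000 : RAll (relsAt ap pB) 10000 11000 := RAll.of (by decide +kernel)
theorem hrel_f2_11000 : RAll (relsAt ap pB) 11000 12000 := RAll.of (by decide +kernel)
theorem hrel_f2_12000 : RAll (relsAt ap pB) 12000 13000 := RAll.of (by decide +kernel)
theorem hrel_f2_13000 : RAll (relsAt ap pB) 13000 14000 := RAll.of (by decide +kernel)
theorem hrel_f2_14000 : RAll (relsAt ap pB) 14000 15000 := RAll.of (by decide +kernel)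
theorem hrel_f2 : RAll (relsAt ap pB) 10000 15000 :=
  (RAll.append (RAll.append hrel_f2_10000 hrel_f2_11000) (RAll.append hrel_f2_12000 (RAll.append hrel_f2_13000 hrel_f2_14000)))

end Cfsg.Agent.H15.Ly
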