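import Cfsg.Agent.H15.Ly.T
set_option autoImplicit false
set_option maxRecDepth 100000

namespace Cfsg.Agent.H15.Ly
open Cfsg.Agent.H15 Cfsg.Agent.H14

theorem hrel_f3_15000 : RAll (relsAt ap pB) 15000 16000 := RAll.of (by decide +kernel)
theorem hrel_f3_16000 : RAll (relsAt ap pB) 16000 17000 := RAll.of (by decide +kernel)
theorem hrel_f3_17000 : RAll (relsAt ap pB) 17000 18000 := RAll.of (by decide +kernel)
theorem hrel_f3_18000 : RAll (relsAt ap pB) 18000 19000 := RAll.of (by decide +kernel)
theorem hrel_f3_19000 : RAll (relsAt ap pB) 19000 19530 := RAll.of (by decide +kernel)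
theorem hrel_f3 : RAll (relsAt ap pB) 15000 19530 :=
  (RAll.append (RAll.append hrel_f3_15000 hrel_f3_16000) (RAll.append hrel_f3_17000 (RAll.append hrel_f3_18000 hrel_f3_19000)))

end Cfsg.Agent.H15.Ly
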