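import Cfsg.Agent.H15.Ly.AM
import Cfsg.Agent.H15.Ly.BM
import Cfsg.Prelude.Def_ChevG2
set_option autoImplicit false
set_option maxRecDepth 100000

namespace Cfsg.Agent.H15.Ly
open Cfsg.Agent.H15 Cfsg.Agent.H14

theorem s70 : allL pB (fun p => okW 8 p.1 && eqOn M7.ap M7.L M7.bs (repL p.1 p.2) []) = true := by decide +kernel
theorem s140 : allL pB (fun p => okW 8 p.1 && eqOn M14.ap M14.L M14.bs (repL p.1 p.2) []) = true := by decide +kernel
instance fact14 : Fact M14.p.Prime := ⟨Nat.prime_five⟩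
def σ14 : Lie.chevG2.Idx ≃ Fin M14.m := finSumFinEquiv (m := 2) (n := 12)
theorem xm : ∀ r : Fin Lie.chevG2.nroots, ∀ i < M14.p, 32 + (M14.p * r + i) < M14.L ∧
    (M14.mat (M14.cs (32 + (M14.p * r + i)))).submatrix σ14 σ14 =
      Lie.chevG2.xMat (ZMod M14.p) r i := by decide +kernel

end Cfsg.Agent.H15.Ly
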