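import Cfsg.Agent.H15.Big5
import Cfsg.Agent.S1055
import Cfsg.Agent.S1059
import Cfsg.Agent.H15.Ly.X
import Cfsg.Agent.H15.Ly.K
import Cfsg.Agent.H15.Ly.TP0
import Cfsg.Agent.H15.Ly.TR0
import Cfsg.Agent.H15.Ly.TR1
import Cfsg.Agent.H15.Ly.TR2
import Cfsg.Agent.H15.Ly.TR3
import Cfsg.Agent.H15.Ly.D1
import Cfsg.Agent.H15.Ly.D2
import Cfsg.Agent.H15.Ly.L0
import Cfsg.Agent.H15.Ly.L1
import Cfsg.Agent.H15.Ly.L2
import Cfsg.Agent.H15.Ly.AM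
import Cfsg.Agent.H15.Ly.AK0
import Cfsg.Agent.H15.Ly.BM
import Cfsg.Agent.H15.Ly.BK0
set_option autoImplicit false
set_option maxRecDepth 100000

namespace Cfsg.Agent.H15.Ly
open Cfsg.Agent.H15 Cfsg.Agent.H14

theorem hperm : RAll (permAt ap (invT pT 8) 19530 8) 0 19530 :=
  hperm_f0
theorem hrel : RAll (relsAt ap pB) 0 19530 :=
  (RAll.append (RAll.append hrel_f0 hrel_f1) (RAll.append hrel_f2 hrel_f3))
theorem M7ok : M7.Ok := ⟨by decide, by decide, (RAll.append (RAll.append (RAll.append (RAll.append M7k0 M7k1) (RAll.append M7k2 M7k3)) (RAll.append (RAll.append M7k4 M7k5) (RAll.append M7k6 M7k7))) (RAll.append (RAll.append (RAll.append M7k8 M7k9) (RAll.append M7k10 M7k11)) (RAll.append (RAll.append M7k12 M7k13) (RAll.append M7k14 M7k15))))⟩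
theorem M14ok : M14.Ok := ⟨by decide, by decide, (RAll.append (RAll.append (RAll.append (RAll.append (RAll.append (RAll.append M14k0 M14k1) (RAll.append M14k2 (RAll.append M14k3 M14k4))) (RAll.append (RAll.append M14k5 (RAll.append M14k6 M14k7)) (RAll.append M14k8 (RAll.append M14k9 M14k10)))) (RAll.append (RAll.append (RAll.append M14k11 (RAll.append M14k12 M14k13)) (RAll.append M14k14 (RAll.append M14k15 M14k16))) (RAll.append (RAll.append M14k17 (RAll.append M14k18 M14k19)) (RAll.append M14k20 (RAll.append M14k21 M14k22))))) (RAll.append (RAll.append (RAll.append (RAll.append M14k23 M14k24) (RAll.append M14k25 (RAll.append M14k26 M14k27))) (RAll.append (RAll.append M14k28 (RAll.append M14k29 M14k30)) (RAll.append M14k31 (RAll.append M14k32 M14k33)))) (RAll.append (RAll.append (RAll.append M14k34 (RAll.append M14k35 M14k36))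 (RAll.append M14k37 (RAll.append M14k38 M14k39))) (RAll.append (RAll.append M14k40 (RAll.append M14k41 M14k42)) (RAll.append M14k43 (RAll.append M14k44 M14k45)))))) (RAll.append (RAll.append (RAll.append (RAll.append (RAll.append M14k46 M14k47) (RAll.append M14k48 (RAll.append M14k49 M14k50))) (RAll.append (RAll.append M14k51 (RAll.append M14k52 M14k53)) (RAll.append M14k54 (RAll.append M14k55 M14k56)))) (RAll.append (RAll.append (RAll.append M14k57 (RAll.append M14k58 M14k59)) (RAll.append M14k60 (RAll.append M14k61 M14k62))) (RAll.append (RAll.append M14k63 (RAll.append M14k64 M14k65)) (RAll.append M14k66 (RAll.append M14k67 M14k68))))) (RAll.append (RAll.append (RAll.append (RAll.append M14k69 M14k70) (RAll.append M14k71 (RAll.append M14k72 M14k73))) (RAll.append (RAll.append M14k74 (RAll.append M14k75 M14k76)) (RAll.append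 M14k77 (RAll.append M14k78 M14k79)))) (RAll.append (RAll.append (RAll.append M14k80 (RAll.append M14k81 M14k82)) (RAll.append M14k83 (RAll.append M14k84 M14k85))) (RAll.append (RAll.append M14k86 (RAll.append M14k87 M14k88)) (RAll.append M14k89 (RAll.append M14k90 M14k91)))))))⟩
theorem s7hi : ∀ l, cut 8 M7.e (invT pT 8 l) = (cut 8 M7.e l)⁻¹ := M7ok.hi (by decide) (by decide +kernel)
theorem s7 : Sat (cut 8 M7.e) (invT pT 8) pB :=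
  M7ok.sat s7hi s70
theorem s14hi : ∀ l, cut 8 M14.e (invT pT 8 l) = (cut 8 M14.e l)⁻¹ := M14ok.hi (by decide) (by decide +kernel)
theorem s14 : Sat (cut 8 M14.e) (invT pT 8) pB :=
  M14ok.sat s14hi s140
theorem pok : PermOk ap (invT pT 8) 19530 8 := PermOk.of hperm (by decide +kernel)
noncomputable def π (l : ℕ) := (pok.perm l, cut 8 M7.e l, cut 8 M14.e l)
theorem sπ : Sat π (invT pT 8) pB := (pok.sat (by decide +kernel) hrel).prod (s7.prod s14)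
abbrev Γ : Type := grG (cut 8 E) π
noncomputable def φ : Γ →* G := gr1 _ _
noncomputable def ρ : Γ →* Equiv.Perm (Fin 19530) := (MonoidHom.fst _ _).comp (gr2 _ _)
noncomputable def ψ7 : Γ →* GL (Fin M7.m) (ZMod M7.p) := ((MonoidHom.fst _ _).comp (MonoidHom.snd _ _)).comp (gr2 _ _)
noncomputable def ψ14 : Γ →* GL (Fin M14.m) (ZMod M14.p) := ((MonoidHom.snd _ _).comp (MonoidHom.snd _ _)).comp (gr2 _ _)
noncomputable def A : TabAct Γ (Via ρ) := pok.tab.via ρ (grE _ _) fun _ _ => rfl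
theorem sΓ : Sat A.e (invT pT 8) pB := sat8.gr sπ
theorem topΓ : cl A.e 8 = ⊤ := gr_top (fun _ => cut_ge) fun l h => Prod.ext (pok.perm_ge l h) (Prod.ext (cut_ge h) (cut_ge h))
theorem cΓ : CardLe (⊤ : Subgroup Γ) 5859000000 := topΓ ▸ bound sΓ
instance finΓ : Finite Γ := cΓ.finite_top
theorem cardΓ : Nat.card Γ ≤ 5859000000 := card_top_eq.ge.trans cΓ.2
theorem trans0 : A.seg 0 A.n ⊆ MulAction.orbit (⊤ : Subgroup Γ) (A.c 0) := A.trans_orb pok.full _ tr0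
theorem lo1_5 : A.Lower (gp A.e lo1_T5) [8] 4 := TabAct.Lower.step (k := 4) (A.lower_nil _) lo1_k5
theorem lo1_4 : A.Lower (gp A.e lo1_T4) [4, 8] 8 := TabAct.Lower.step (k := 2) lo1_5 lo1_k4
theorem lo1_3 : A.Lower (gp A.e lo1_T3) [3, 4, 8] 25000 := TabAct.Lower.step (k := 3125) lo1_4 lo1_k3
theorem lo1_2 : A.Lower (gp A.e lo1_T2) [2, 3, 4, 8] 75000 := TabAct.Lower.step (k := 3) lo1_3 lo1_k2
theorem lo1_1 : A.Lower (gp A.e lo1_T1) [1, 2, 3, 4, 8] 300000 := TabAct.Lower.step (k := 4) lo1_2 lo1_k1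
theorem lo2_5 : A.Lower (gp A.e lo2_T5) [8] 4 := TabAct.Lower.step (k := 4) (A.lower_nil _) lo2_k5
theorem lo2_4 : A.Lower (gp A.e lo2_T4) [4, 8] 8 := TabAct.Lower.step (k := 2) lo2_5 lo2_k4
theorem lo2_2 : A.Lower (gp A.e lo2_T2) [2, 4, 8] 24 := TabAct.Lower.step (k := 3) lo2_4 lo2_k2
theorem lo2_1 : A.Lower (gp A.e lo2_T1) [1, 2, 4, 8] 96 := TabAct.Lower.step (k := 4) lo2_2 lo2_k1
theorem lo2_0 : A.Lower (gp A.e lo2_T0) [0, 1, 2, 4, 8] 6048 := TabAct.Lower.step (k := 63) lo2_1 lo2_k0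
theorem lo3_5 : A.Lower (gp A.e lo3_T5) [8] 4 := TabAct.Lower.step (k := 4) (A.lower_nil _) lo3_k5
theorem lo3_4 : A.Lower (gp A.e lo3_T4) [4, 8] 8 := TabAct.Lower.step (k := 2) lo3_5 lo3_k4
theorem lo3_2 : A.Lower (gp A.e lo3_T2) [2, 4, 8] 24 := TabAct.Lower.step (k := 3) lo3_4 lo3_k2
theorem lo3_1 : A.Lower (gp A.e lo3_T1) [1, 2, 4, 8] 96 := TabAct.Lower.step (k := 4) lo3_2 lo3_k1
theorem lo3_0 : A.Lower (gp A.e lo3_T0) [0, 1, 2, 4, 8] 2880 := TabAct.Lower.step (k := 30) lo3_1 lo3_k0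
theorem lo4_5 : A.Lower (gp A.e lo4_T5) [8] 4 := TabAct.Lower.step (k := 4) (A.lower_nil _) lo4_k5
theorem lo4_4 : A.Lower (gp A.e lo4_T4) [4, 8] 8 := TabAct.Lower.step (k := 2) lo4_5 lo4_k4
theorem lo4_1 : A.Lower (gp A.e lo4_T1) [1, 4, 8] 24 := TabAct.Lower.step (k := 3) lo4_4 lo4_k1
theorem lo4_0 : A.Lower (gp A.e lo4_T0) [0, 1, 4, 8] 1008 := TabAct.Lower.step (k := 42) lo4_1 lo4_k0
theorem lowT : A.Lower ⊤ [0, 1, 2, 3, 4, 8] ((19530 - 0) * 300000) :=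
  lo1_1.seg (a := 0) (by norm_num) le_rfl trans0 le_top (A.gp_le_stabilizer (by decide +kernel) (by decide +kernel) (by decide +kernel))
theorem base : A.Base ⊤ bs := lowT.base cΓ.2
theorem low0 : 5859000000 ≤ Nat.card (gp A.e (idW 8)) := by rw [gp_idW, topΓ]; exact lowT.le_card
def ds : List DL := [d0, d1, d2, d3, d4]
theorem live : ∀ d ∈ ds, DHyp.Live (P := dP) (A := A) 96 5859000000 (ds.map (·.i)) d := by
  simp only [ds, List.forall_mem_cons]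
  exact ⟨⟨lv0a, lv0b, low0⟩, ⟨lv1a, lv1b, lo1_1.le_card⟩, ⟨lv2a, lv2b, lo2_0.le_card⟩, ⟨lv3a, lv3b, lo3_0.le_card⟩, ⟨lv4a, lv4b, lo4_0.le_card⟩, List.forall_mem_nil _⟩
theorem ksok : okS A.L ks = true := by decide +kernel
theorem kc4 : (A.comp ks ksok).Lower (gp (A.comp ks ksok).e kcT4) [8] 4 := TabAct.Lower.step (k := 4) ((A.comp ks ksok).lower_nil _) kck4
theorem kc3 : (A.comp ks ksok).Lower (gp (A.comp ks ksok).e kcT3) [4, 8] 8 := TabAct.Lower.step (k := 2) kc4 kck3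
theorem kc2 : (A.comp ks ksok).Lower (gp (A.comp ks ksok).e kcT2) [3, 4, 8] 25000 := TabAct.Lower.step (k := 3125) kc3 kck2
theorem kc1 : (A.comp ks ksok).Lower (gp (A.comp ks ksok).e kcT1) [2, 3, 4, 8] 75000 := TabAct.Lower.step (k := 3) kc2 kck1
theorem kc0 : (A.comp ks ksok).Lower (gp (A.comp ks ksok).e kcT0) [1, 2, 3, 4, 8] 300000 := TabAct.Lower.step (k := 4) kc1 kck0
theorem hK : MulAction.stabilizer Γ (A.c 0) ≤ gp A.e dP.ks :=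
  (A.stab_of_card (hs := ks) (m := 300000) cardΓ (cl_nth A.e ks ▸ kc0.le_gp (by decide +kernel)) (by norm_num) trans0 (by decide +kernel)).1.ge
theorem st1 : gp A.e lo1_T1 = MulAction.stabilizer Γ (A.c 0) :=
  (A.stab_of_card (m := 300000) cardΓ lo1_1.le_card (by norm_num) trans0 (by decide +kernel)).1
theorem iso : Nonempty (Γ ≃* Lie.chevG2.group (ZMod M14.p)) := by
  obtain ⟨f, hf, h⟩ := M14ok.chev Lie.chevG2 σ14 32 xm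
    (M14ok.range ψ14 (a := 8) (E := A.e) (fun _ => rfl) (by decide +kernel))
  exact iso_of_le_range ψ14 hf h (cardΓ.trans (S1059.result (F := ZMod M14.p) (q := 5) (ZMod.card M14.p)).ge)
instance simΓ : IsSimpleGroup Γ :=
  have := (S1055.result (F := ZMod M14.p) ⟨2, by decide +kernel, by decide +kernel⟩).1
  iso.some.isSimpleGroup
theorem hφ (l : ℕ) : φ (A.e l) = cut 8 E l := rfl
theorem rφ : φ.range = cl (cut 8 E) 8 := gr1_range topΓ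
theorem dh : DHyp dP A φ (E 8) ((1 : G) : G ⧸ φ.range) :=
  sat.dhyp (rs := rs) rfl rfl base sΓ.hi hφ 8 rfl [[([4, 8, 1, 3, 4, 1, 2, 4, 3, 0, 2, 0], 72, true)], [([5, 8], 72, false)], [([1, 4, 0, 8, 3, 5, 3, 0, 5, 1, 2, 2], 73, true)], [([1, 5, 0, 8], 73, false)], [([3, 4, 2, 8, 1, 3, 1, 5, 0, 2, 0], 74, true)], [([3, 5, 2, 8], 74, false)], [([2, 4, 3, 8, 3, 1, 2, 5, 3, 0, 2], 75, true)], [([2, 5, 3, 8], 75, false)], [([0, 8, 0, 0, 0], 77, true)], [([1, 8], 77, false)], [([2, 0, 3, 8, 0, 0, 2, 0, 3], 78, true)], [([2, 1, 3, 8], 78, false)], [([2, 2, 0, 3, 3, 8, 0, 2, 2, 1, 3, 3, 1], 79, true)], [([2, 2, 1, 3, 3, 8], 79, false)]]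
    [[([], 80, true)], [([8, 1, 1], 80, true)], [([8, 3, 3, 0, 2, 2, 8, 3, 3, 0, 2, 2, 8, 0, 0], 81, true)], [([8, 3, 3, 0, 2, 2, 8, 0, 0], 81, true)], [([8, 0, 0], 81, true)], [([8, 1, 6, 3, 5, 1, 2, 5, 7, 2, 5, 3, 1, 5, 0, 3, 0, 2, 0, 3, 8, 1, 5, 7, 0, 5, 3, 0, 5, 7, 1, 5, 0, 4, 3, 3, 5, 3, 1, 3, 3, 8], 82, true)], [([8, 1, 5, 7, 0, 5, 3, 0, 5, 7, 1, 5, 0, 4, 3, 3, 5, 3, 1, 3, 3, 8], 82, true)], [([8], 82, true)], [([], 83, true), ([9, 7, 8, 1, 1], 80, true), ([8, 1, 1], 80, true)], [([9, 1, 5, 7, 2, 1, 3, 5, 7, 2, 1, 3, 5, 3, 0, 3, 3, 0, 3, 8, 6, 8, 0, 2, 1, 2, 2, 1, 2, 2, 5, 0, 4, 2, 4, 3, 6, 4, 3, 3, 6, 4, 2, 4], 83, true), ([9, 1, 5, 7, 2, 1, 3, 5, 7, 2, 1, 3, 5, 3, 0, 3, 3, 0, 3, 8, 6, 8, 0, 2, 1, 2, 2, 1, 2, 2, 5, 0, 4, 2, 4, 3, 6, 4, 3, 3, 6, 4, 2, 4, 8, 1, 1], 80, true), ([8, 1, 1], 80, true)], [([8, 6, 8, 0, 2, 1,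 2, 2, 1, 2, 2, 5, 0, 4, 2, 4, 3, 6, 4, 3, 3, 6, 4, 2, 4], 83, true), ([8, 6, 8, 0, 2, 1, 2, 2, 1, 2, 2, 5, 0, 4, 2, 4, 3, 6, 4, 3, 3, 6, 4, 2, 4, 9, 7, 8, 1, 1], 80, true), ([8, 6, 8, 0, 2, 1, 2, 2, 1, 2, 2, 5, 0, 4, 2, 4, 3, 6, 4, 3, 3, 6, 4, 2, 4, 8, 1, 1], 80, true)], [([8, 0, 2, 1, 2, 2, 1, 2, 2, 5, 0, 4, 2, 4, 3, 6, 4, 3, 3, 6, 4, 2, 4], 83, true), ([8, 0, 2, 1, 2, 2, 1, 2, 2, 5, 0, 4, 2, 4, 3, 6, 4, 3, 3, 6, 4, 2, 4, 9, 7, 8, 1, 1], 80, true), ([8, 0, 2, 1, 2, 2, 1, 2, 2, 5, 0, 4, 2, 4, 3, 6, 4, 3, 3, 6, 4, 2, 4, 8, 1, 1], 80, true)], [([], 84, true), ([8, 2, 0, 3, 1, 3, 3, 1, 3, 4, 2, 2, 4, 2, 6, 4, 3, 3, 6, 4, 2, 4, 8, 0, 3, 3, 1, 4, 2, 5, 2, 1, 5, 5, 6, 4, 0, 4, 1, 4, 3, 7, 9, 5, 3, 5, 7, 2, 2, 5, 7, 3, 5, 3, 3, 5, 2, 0, 2, 2, 0, 2, 1, 3, 8, 1, 1], 80, true), ([8, 2, 0, 3, 1, 3, 3, 1, 3, 4, 2, 2, 4, 2, 6, 4, 3, 3,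 6, 4, 2, 4, 8, 0, 3, 3, 1, 4, 2, 5, 2, 1, 5, 5, 6, 4, 0, 4, 1, 4, 3, 7, 8, 1, 1], 80, true)], [([8, 0, 3, 3, 1, 4, 2, 5, 2, 1, 5, 5, 6, 4, 0, 4, 1, 4, 3, 7, 9, 5, 3, 5, 7, 2, 2, 5, 7, 3, 5, 3, 3, 5, 2, 0, 2, 2, 0, 2, 1, 3, 9, 7, 0, 4, 2, 4, 1, 5, 7, 0, 3, 1, 4, 1, 3, 3, 1, 2, 1], 84, true), ([8, 0, 3, 3, 1, 4, 2, 5, 2, 1, 5, 5, 6, 4, 0, 4, 1, 4, 3, 7, 9, 5, 3, 5, 7, 2, 2, 5, 7, 3, 5, 3, 3, 5, 2, 0, 2, 2, 0, 2, 1, 3, 8, 1, 1], 80, true), ([8, 0, 3, 3, 1, 4, 2, 5, 2, 1, 5, 5, 6, 4, 0, 4, 1, 4, 3, 7, 8, 1, 1], 80, true)], [([9, 5, 3, 5, 7, 2, 2, 5, 7, 3, 5, 3, 3, 5, 2, 0, 2, 2, 0, 2, 1, 3, 9, 7, 0, 4, 2, 4, 1, 5, 7, 0, 3, 1, 4, 1, 3, 3, 1, 2, 1], 84, true), ([9, 5, 3, 5, 7, 2, 2, 5, 7, 3, 5, 3, 3, 5, 2, 0, 2, 2, 0, 2, 1, 3, 8, 1, 1], 80, true), ([8, 1, 1], 80, true)], [([9, 7, 0, 4, 2, 4, 1, 5, 7, 0, 3, 1, 4, 1, 3, 3, 1, 2, 1],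 84, true), ([9, 7, 0, 4, 2, 4, 1, 5, 7, 0, 3, 1, 4, 1, 3, 3, 1, 2, 1, 8, 2, 0, 3, 1, 3, 3, 1, 3, 4, 2, 2, 4, 2, 6, 4, 3, 3, 6, 4, 2, 4, 8, 0, 3, 3, 1, 4, 2, 5, 2, 1, 5, 5, 6, 4, 0, 4, 1, 4, 3, 7, 8, 1, 1], 80, true), ([8, 1, 1], 80, true)], [([], 85, true), ([8, 2, 6, 8, 2, 2, 1, 3, 1, 2, 2, 5, 0, 4, 1, 5, 6, 5, 2, 2, 1, 4, 2, 9, 7, 3, 8, 1, 1], 80, true), ([8, 2, 6, 8, 2, 2, 1, 3, 1, 2, 2, 5, 0, 4, 1, 5, 6, 5, 2, 2, 1, 4, 2, 8, 1, 1], 80, true)], [([8, 2, 2, 1, 3, 1, 2, 2, 5, 0, 4, 1, 5, 6, 5, 2, 2, 1, 4, 2, 9, 7, 3, 9, 5, 1, 4, 2, 5, 7, 4, 1, 4, 0, 4, 3, 1, 3, 1, 2], 85, true), ([8, 2, 2, 1, 3, 1, 2, 2, 5, 0, 4, 1, 5, 6, 5, 2, 2, 1, 4, 2, 9, 7, 3, 8, 1, 1], 80, true), ([8, 2, 2, 1, 3, 1, 2, 2, 5, 0, 4, 1, 5, 6, 5, 2, 2, 1, 4, 2, 8, 1, 1], 80, true)], [([9, 7, 3, 9, 5, 1, 4, 2, 5, 7, 4, 1, 4, 0, 4, 3, 1, 3, 1, 2], 85, true),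 ([9, 7, 3, 8, 1, 1], 80, true), ([8, 1, 1], 80, true)], [([9, 5, 1, 4, 2, 5, 7, 4, 1, 4, 0, 4, 3, 1, 3, 1, 2], 85, true), ([9, 5, 1, 4, 2, 5, 7, 4, 1, 4, 0, 4, 3, 1, 3, 1, 2, 8, 2, 6, 8, 2, 2, 1, 3, 1, 2, 2, 5, 0, 4, 1, 5, 6, 5, 2, 2, 1, 4, 2, 8, 1, 1], 80, true), ([8, 1, 1], 80, true)]] (by decide +kernel)
theorem cov : DCov φ.range (ds.map fun d => (dh.p d.i, d.b)) ∧ ∀ d ∈ ds, ∀ γ ∈ gp A.e d.T, φ γ • dh.p d.i = dh.p d.i :=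
  dh.main (dh.ok_of (a := 0) (fun _ h => absurd h (Nat.not_lt_zero _)) dgood) pok.full (by decide) hK cardΓ ds (by decide) live
    (fun x => MulAction.exists_smul_eq G _ x) (rφ ▸ top_le_sup top (hi 8))

end Cfsg.Agent.H15.Ly
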