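import Cfsg.Agent.H15.Big3
import Cfsg.Prelude.Def_Spor_Ly
import Cfsg.Agent.H15.LyT0
import Cfsg.Agent.H15.LyT1
import Cfsg.Agent.H15.LyT2
import Cfsg.Agent.H15.LyT3
set_option autoImplicit false
set_option maxRecDepth 100000

namespace Cfsg.Agent.H15.Ly
open Cfsg.Agent.H15 Cfsg.Agent.H14

open Cfsg.Spor

abbrev G := Spor.Ly
def ls : List (Spor.Ly.Gen × Bool) := [(.a, false), (.a, true), (.b, false), (.b, true), (.c, false), (.c, true), (.d, false), (.d, true), (.z, false), (.z, true)]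
def E : ℕ → G := letters PresentedGroup.of ls
def fT : ℕ := 146675336561045505
theorem hi : ∀ l, E (invT fT 10 l) = (E l)⁻¹ := letters_hi (ls := ls) _ (by decide +kernel)
def W : Spor.Ly.Gen → List ℕ
  | .a => [0]
  | .b => [2]
  | .c => [4]
  | .d => [6]
  | .z => [8]
  | .e => [3, 3, 1, 5, 0, 4, 1, 4, 0, 6, 4, 2, 0, 3, 6, 4, 6]
  | .a1 => [0]
  | .a2 => [2, 0, 3]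
  | .a3 => [2, 2, 0, 3, 3]
  | .a4 => [3, 3, 0, 2, 2]
  | .c1 => [4]
  | .c2 => [1, 4, 0]
  | .c3 => [3, 4, 2]
  | .c4 => [2, 4, 3]
  | .c5 => [5, 1, 5, 0, 4, 1, 4, 0]
  | .u => [0, 0]
  | .x23 => [6]
  | .x24 => [7]
  | .x25 => [2, 2, 1, 3, 1, 2, 2, 5, 0, 4, 1, 5, 6, 5, 2, 2, 1, 4, 2]
  | .x29 => [0, 2, 1, 2, 2, 1, 2, 2, 5, 0, 4, 2, 4, 3, 6, 4, 3, 3, 6, 4, 2, 4]
  | .x47 => [5, 7, 1, 5, 1, 2, 5, 7]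
  | .x96 => [2, 6]
  | .x129 => [7, 3]
  | .x162 => [1, 3, 1, 2, 5, 3, 0, 5, 2, 0]
  | .x163 => [3, 3, 0, 4, 1, 2, 4, 2]
  | .x164 => [1, 3, 1, 4, 0, 2, 0]
  | .x165 => [3, 1, 2, 4, 3, 0, 2]
  | .x166 => [2, 2, 1, 3, 4, 2, 0, 4, 3, 3, 5]
  | .x167 => [1, 1, 1]
  | .x168 => [2, 1, 3, 1, 1]
  | .x169 => [0, 2, 2, 0, 3, 3, 1]
  | .x364 => [1, 6, 3, 5, 1, 2, 5, 7, 2, 5, 3, 1, 5, 0, 3, 0, 2, 0, 3]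
  | .x365 => [0, 3, 3, 1, 4, 2, 5, 2, 1, 5, 5, 6, 4, 0, 4, 1, 4, 3, 7]
  | .x366 => [2, 0, 3, 1, 3, 3, 1, 3, 4, 2, 2, 4, 2, 6, 4, 3, 3, 6, 4, 2, 4]
  | .x367 => [5, 3, 5, 7, 2, 2, 5, 7, 3, 5, 3, 3, 5, 2, 0, 2, 2, 0, 2, 1, 3]
  | .x368 => [1, 5, 7, 0, 5, 3, 0, 5, 7, 1, 5, 0, 4, 3, 3, 5, 3, 1, 3, 3]
  | .x369 => [1, 5, 7, 2, 1, 3, 5, 7, 2, 1, 3, 5, 3, 0, 3, 3, 0, 3]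
  | .x370 => [7, 0, 4, 2, 4, 1, 5, 7, 0, 3, 1, 4, 1, 3, 3, 1, 2, 1]
  | .x371 => [5, 1, 4, 2, 5, 7, 4, 1, 4, 0, 4, 3, 1, 3, 1, 2]
def gens : List Spor.Ly.Gen := [.a, .b, .c, .d, .z, .e, .a1, .a2, .a3, .a4, .c1, .c2, .c3, .c4, .c5, .u, .x23, .x24, .x25, .x29, .x47, .x96, .x129, .x162, .x163, .x164, .x165, .x166, .x167, .x168, .x169, .x364, .x365, .x366, .x367, .x368, .x369, .x370, .x371]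
theorem mem_gens (x : Spor.Ly.Gen) : x ∈ gens := by cases x <;> decide
def rs0 : List (FreeGroup Spor.Ly.Gen) := pick Spor.Ly.extra [5, 6, 7, 8, 9, 28, 44, 45, 46, 47, 48, 49, 50, 51, 52, 53, 54, 55, 56, 57, 58, 59, 60, 61, 62, 63, 64, 65, 66, 67, 68, 69, 70, 71]
theorem hW (x : Spor.Ly.Gen) : PresentedGroup.of x = lprod E (W x) :=
  aux_def hi rs0 [.a, .b, .c, .d, .z] (by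
    simp only [List.forall_mem_cons]
    exact ⟨(mul_one _).symm, (mul_one _).symm, (mul_one _).symm, (mul_one _).symm, (mul_one _).symm, List.forall_mem_nil _⟩)
    pick_mem (by decide +kernel) x
    ((by decide +kernel : ∀ x ∈ gens, x ∈ [Spor.Ly.Gen.a, .b, .c, .d, .z] ∨ ∃ r ∈ rs0, ∃ p ∈ r.toWord.head?, p.1 = x) x (mem_gens x))
def BF : List (List ℕ × ℕ) := [([0, 0, 0, 0, 0, 0, 0, 0], 1), ([2, 2, 2, 2, 2], 1), ([0, 2, 0, 2, 0, 2, 0, 2], 1), ([1, 1, 3, 0, 0, 2], 1), ([1, 3, 0, 2, 1, 3, 0, 2, 1, 3, 0, 2], 1), ([], 1), ([], 1), ([], 1), ([], 1), ([], 1), ([4, 4, 4, 4, 4], 1), ([5, 1, 5, 0, 4, 1, 4, 0, 5, 1, 5, 0, 4, 1, 4, 0, 5, 1, 5, 0, 4, 1, 4, 0, 5, 1, 5, 0, 4, 1, 4, 0, 5, 1, 5, 0, 4, 1, 4, 0], 1), ([5, 1, 5, 0, 5, 1, 4, 0,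 4, 1, 5, 0, 4, 1, 4, 0], 1), ([1, 5, 5, 0, 5, 1, 4, 0, 4, 1, 4, 0, 5, 1, 5, 0, 4, 1, 4, 0], 1), ([3, 5, 2, 1, 5, 0, 5, 1, 4, 0, 4, 3, 4, 2, 5, 1, 5, 0, 4, 1, 4, 0], 1), ([2, 5, 3, 1, 5, 0, 5, 1, 4, 0, 4, 2, 4, 3, 5, 1, 5, 0, 4, 1, 4, 0], 1), ([5, 3, 5, 2, 4, 3, 4, 2, 5, 1, 5, 0, 4, 1, 4, 0, 5, 1, 5, 0, 4, 1, 4, 0], 1), ([5, 2, 5, 3, 4, 2, 4, 3, 1, 5, 0, 5, 1, 4, 0, 4, 1, 5, 0, 5, 1, 4, 0, 4], 1), ([1, 5, 0, 3, 5, 2, 1, 4, 0, 3, 4, 2, 5, 1, 5, 0, 4, 1, 4, 0], 1), ([1, 5, 0, 2, 5, 3, 1, 4, 0, 2, 4, 3], 1), ([3, 5, 2, 2, 5, 3, 3, 4, 2, 2, 4, 3, 5, 1, 5, 0, 4, 1, 4, 0], 1), ([1, 1, 4, 0, 0, 4, 4], 1), ([1, 3, 4, 2, 0, 2, 5, 3, 5, 3, 4, 4, 2], 1), ([1, 2, 4, 3, 0, 2, 5, 3, 5, 2, 5, 3, 3, 4, 2, 1, 4, 0, 5], 1), ([1, 5, 1, 5, 0, 4,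 1, 4, 0, 5, 0, 5, 1, 4, 0, 4, 1, 5, 0, 5, 1, 4, 0, 4], 1), ([3, 1, 4, 0, 2, 2, 4, 3, 4, 2, 4, 3, 3, 5, 2, 1, 5, 0], 1), ([3, 3, 4, 2, 4, 4, 2, 2, 5, 3, 5, 5], 1), ([3, 5, 1, 5, 0, 4, 1, 4, 0, 2, 1, 5, 0, 5, 1, 4, 0, 4], 1), ([], 1), ([3, 3, 1, 5, 0, 4, 1, 4, 0, 6, 4, 2, 0, 3, 6, 4, 6, 3, 3, 1, 5, 0, 4, 1, 4, 0, 6, 4, 2, 0, 3, 6, 4, 6], 1), ([7, 5, 7, 2, 1, 3, 5, 7, 1, 5, 0, 5, 1, 4, 0, 2, 2, 4, 3, 3, 1, 5, 0, 4, 1, 4, 0, 6, 4, 2, 0, 3, 6, 4, 6, 4, 3, 3, 5], 1), ([7, 5, 7, 2, 1, 3, 5, 7, 1, 5, 0, 5, 1, 4, 0, 2, 4, 3, 1, 5, 0, 4, 1, 4, 0, 6, 4, 2, 0, 3, 6, 4, 6, 0, 2, 4, 3, 4, 1, 5, 3, 3], 1), ([7, 5, 7, 2, 1, 3, 5, 7, 1, 5, 0, 5, 1, 4, 0, 2, 2, 2, 4, 3, 3, 3, 1, 5, 0, 4, 1, 4, 0, 6, 4, 2, 0, 3, 6, 4, 6, 2, 5, 3, 3, 4, 3], 1),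 ([7, 5, 7, 2, 1, 3, 5, 7, 1, 5, 0, 5, 1, 4, 0, 2, 2, 5, 1, 5, 0, 4, 1, 4, 0, 3, 3, 1, 5, 0, 4, 1, 4, 0, 6, 4, 2, 0, 3, 6, 4, 6, 2, 4, 3, 5, 3, 4, 2, 5], 1), ([3, 3, 1, 5, 0, 4, 1, 4, 0, 6, 4, 2, 0, 3, 6, 4, 6, 0, 0, 3, 3, 1, 5, 0, 4, 1, 4, 0, 6, 4, 2, 0, 3, 6, 4, 6, 2, 4, 3, 1, 5, 0, 5, 1, 4, 2, 1, 3, 3, 1], 1), ([7, 5, 7, 2, 1, 3, 5, 7, 1, 5, 0, 5, 1, 4, 0, 2, 1, 5, 0, 4, 1, 4, 0, 6, 4, 2, 0, 3, 6, 4, 6, 2, 4, 4, 3, 3, 4, 2, 5], 1), ([3, 3, 1, 5, 0, 4, 1, 4, 0, 6, 4, 2, 0, 3, 6, 4, 6, 0, 2, 2, 0, 3, 0, 3, 3, 1, 5, 0, 4, 1, 4, 0, 6, 4, 2, 0, 3, 6, 4, 6, 2, 4, 3, 1, 5, 0, 5, 1, 4, 1], 1), ([3, 3, 1, 5, 0, 4, 1, 4, 0, 6, 4, 2, 0, 3, 6, 4, 6, 1, 4, 0, 3, 3, 1, 5, 0, 4, 1, 4, 0, 6, 4, 2, 0, 3, 6, 4, 6, 1, 5, 0, 3, 3, 1, 5, 0, 4,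 1, 4, 0, 6, 4, 2, 0, 3, 6, 4, 6, 1, 4, 0, 2, 5, 3, 0, 3, 4, 2, 0, 0, 0], 1), ([5, 7, 2, 1, 3, 5, 7, 1, 5, 0, 5, 1, 4, 0, 2, 1, 4, 7, 5, 7, 2, 1, 3, 5, 7, 1, 5, 0, 5, 1, 4, 0, 2, 2, 1, 7, 5, 7, 2, 1, 3, 5, 7, 1, 5, 0, 5, 1, 4, 0, 2, 2, 1, 5, 1, 5, 0, 4, 1, 4, 0, 2, 4, 3, 4, 2, 0, 3, 3, 1], 1), ([6, 6, 1, 1, 1, 1], 1), ([3, 7, 2, 6], 1), ([7, 0, 6, 1, 1, 1], 1), ([6, 5, 1, 5, 0, 4, 1, 4, 0, 6, 5, 1, 5, 0, 4, 1, 4, 0, 6, 5, 1, 5, 0, 4, 1, 4, 0, 6, 5, 1, 5, 0, 4, 1, 4, 0, 6, 5, 1, 5, 0, 4, 1, 4, 0], 1), ([6, 5, 1, 5, 0, 4, 1, 4, 0, 6, 1, 5, 0, 5, 1, 4, 0, 4, 6, 5, 1, 5, 0, 4, 1, 4, 1], 1), ([], 1), ([], 1), ([], 1), ([], 1), ([], 1), ([], 1), ([], 1), ([], 1), ([], 1), ([], 1), ([], 1), ([], 1), ([], 1), ([], 1), ([], 1), ([], 1),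 ([], 1), ([], 1), ([], 1), ([], 1), ([], 1), ([], 1), ([], 1), ([], 1), ([], 1), ([], 1), ([], 1), ([], 1), ([9, 4, 8, 1, 3, 4, 1, 2, 4, 3, 0, 2, 0], 1), ([9, 1, 4, 0, 8, 3, 5, 3, 0, 5, 1, 2, 2], 1), ([9, 3, 4, 2, 8, 1, 3, 1, 5, 0, 2, 0], 1), ([9, 2, 4, 3, 8, 3, 1, 2, 5, 3, 0, 2], 1), ([9, 5, 1, 5, 0, 4, 1, 4, 0, 8, 4, 2, 2, 5, 1, 3, 5, 2, 0, 3, 3], 1), ([9, 0, 8, 0, 0, 0], 1), ([9, 2, 0, 3, 8, 0, 0, 2, 0, 3], 1), ([9, 2, 2, 0, 3, 3, 8, 0, 2, 2, 1, 3, 3, 1], 1), ([8, 8, 1, 1], 1), ([3, 3, 0, 2, 2, 8, 3, 3, 0, 2, 2, 8, 3, 3, 0, 2, 2, 8, 0, 0], 1), ([5, 7, 1, 5, 1, 2, 5, 7, 8, 1, 6, 3, 5, 1, 2, 5, 7, 2, 5, 3, 1, 5, 0, 3, 0, 2, 0, 3, 8, 1, 5, 7, 0, 5, 3, 0, 5, 7, 1, 5, 0, 4, 3, 3, 5, 3, 1, 3, 3, 8], 1), ([9, 7, 9, 1, 5, 7, 2, 1,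 3, 5, 7, 2, 1, 3, 5, 3, 0, 3, 3, 0, 3, 8, 6, 8, 0, 2, 1, 2, 2, 1, 2, 2, 5, 0, 4, 2, 4, 3, 6, 4, 3, 3, 6, 4, 2, 4], 1), ([8, 2, 0, 3, 1, 3, 3, 1, 3, 4, 2, 2, 4, 2, 6, 4, 3, 3, 6, 4, 2, 4, 8, 0, 3, 3, 1, 4, 2, 5, 2, 1, 5, 5, 6, 4, 0, 4, 1, 4, 3, 7, 9, 5, 3, 5, 7, 2, 2, 5, 7, 3, 5, 3, 3, 5, 2, 0, 2, 2, 0, 2, 1, 3, 9, 7, 0, 4, 2, 4, 1, 5, 7, 0, 3, 1, 4, 1, 3, 3, 1, 2, 1], 1), ([8, 2, 6, 8, 2, 2, 1, 3, 1, 2, 2, 5, 0, 4, 1, 5, 6, 5, 2, 2, 1, 4, 2, 9, 7, 3, 9, 5, 1, 4, 2, 5, 7, 4, 1, 4, 0, 4, 3, 1, 3, 1, 2], 1)]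
theorem BF_eq : auxB W (invT fT 10) Spor.Ly.extra = BF := by decide +kernel
theorem sat : Sat E (invT fT 10) BF := BF_eq ▸ aux_rels hi hW
theorem top : cl E 10 = ⊤ := aux_top hW fun x => (by decide +kernel : ∀ x ∈ gens, okW 10 (W x) = true) x (mem_gens x)
theorem hom {H : Type*} [Group H] {e : ℕ → H} (h : Sat (cut 10 e) (invT fT 10) BF) :
    ∃ ψ : G →* H, ∀ l, ψ (E l) = cut 10 e l := by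
  obtain ⟨ψ, hψ⟩ := aux_hom (BF_eq ▸ h)
  refine ⟨ψ, fun l => ?_⟩
  refine (map_letters ψ _ ls l).trans ?_
  by_cases hl : l < 10
  · exact letters_eq h.hi hψ ((by decide +kernel : ∀ l < 10, ∃ p ∈ ls[l]?, W p.1 = [bif p.2 then invT fT 10 l else l]) l hl)
  · rw [cut_ge (not_lt.mp hl), letters, List.getElem?_eq_none (not_lt.mp hl)]
def pT : ℕ := 26873694793729
def pB : List (List ℕ × ℕ) := [([0], 8), ([2], 5), ([0, 2], 4), ([1, 1, 3, 0, 0, 2], 1), ([1, 3, 0, 2], 3), ([4], 5), ([5, 1, 5, 0, 4, 1, 4, 0], 5), ([5, 1, 5, 0, 5, 1, 4, 0, 4, 1, 5, 0, 4, 1, 4, 0], 1), ([1, 5, 5, 0, 5, 1, 4, 0, 4, 1, 4, 0, 5, 1, 5, 0, 4, 1, 4, 0], 1), ([3, 5, 2, 1, 5, 0, 5, 1, 4, 0, 4, 3, 4, 2, 5, 1, 5, 0, 4, 1, 4, 0], 1), ([2, 5, 3, 1, 5, 0, 5, 1, 4,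 0, 4, 2, 4, 3, 5, 1, 5, 0, 4, 1, 4, 0], 1), ([5, 3, 5, 2, 4, 3, 4, 2, 5, 1, 5, 0, 4, 1, 4, 0, 5, 1, 5, 0, 4, 1, 4, 0], 1), ([5, 2, 5, 3, 4, 2, 4, 3, 1, 5, 0, 5, 1, 4, 0, 4, 1, 5, 0, 5, 1, 4, 0, 4], 1), ([1, 5, 0, 3, 5, 2, 1, 4, 0, 3, 4, 2, 5, 1, 5, 0, 4, 1, 4, 0], 1), ([1, 5, 0, 2, 5, 3, 1, 4, 0, 2, 4, 3], 1), ([3, 5, 2, 2, 5, 3, 3, 4, 2, 2, 4, 3, 5, 1, 5, 0, 4, 1, 4, 0], 1), ([1, 1, 4, 0, 0, 4, 4], 1), ([1, 3, 4, 2, 0, 2, 5, 3, 5, 3, 4, 4, 2], 1), ([1, 2, 4, 3, 0, 2, 5, 3, 5, 2, 5, 3, 3, 4, 2, 1, 4, 0, 5], 1), ([1, 5, 1, 5, 0, 4, 1, 4, 0, 5, 0, 5, 1, 4, 0, 4, 1, 5, 0, 5, 1, 4, 0, 4], 1), ([3, 1, 4, 0, 2, 2, 4, 3, 4, 2, 4, 3, 3, 5, 2, 1, 5, 0], 1), ([3, 3, 4, 2, 4, 4, 2, 2, 5, 3, 5, 5], 1), ([3, 5, 1, 5, 0, 4, 1, 4, 0, 2, 1,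 5, 0, 5, 1, 4, 0, 4], 1), ([3, 3, 1, 5, 0, 4, 1, 4, 0, 6, 4, 2, 0, 3, 6, 4, 6], 2), ([7, 5, 7, 2, 1, 3, 5, 7, 1, 5, 0, 5, 1, 4, 0, 2, 2, 4, 3, 3, 1, 5, 0, 4, 1, 4, 0, 6, 4, 2, 0, 3, 6, 4, 6, 4, 3, 3, 5], 1), ([7, 5, 7, 2, 1, 3, 5, 7, 1, 5, 0, 5, 1, 4, 0, 2, 4, 3, 1, 5, 0, 4, 1, 4, 0, 6, 4, 2, 0, 3, 6, 4, 6, 0, 2, 4, 3, 4, 1, 5, 3, 3], 1), ([7, 5, 7, 2, 1, 3, 5, 7, 1, 5, 0, 5, 1, 4, 0, 2, 2, 2, 4, 3, 3, 3, 1, 5, 0, 4, 1, 4, 0, 6, 4, 2, 0, 3, 6, 4, 6, 2, 5, 3, 3, 4, 3], 1), ([7, 5, 7, 2, 1, 3, 5, 7, 1, 5, 0, 5, 1, 4, 0, 2, 2, 5, 1, 5, 0, 4, 1, 4, 0, 3, 3, 1, 5, 0, 4, 1, 4, 0, 6, 4, 2, 0, 3, 6, 4, 6, 2, 4, 3, 5, 3, 4, 2, 5], 1), ([3, 3, 1, 5, 0, 4, 1, 4, 0, 6, 4, 2, 0, 3, 6, 4, 6, 0, 0, 3, 3, 1, 5, 0, 4, 1, 4, 0, 6, 4, 2, 0, 3,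 6, 4, 6, 2, 4, 3, 1, 5, 0, 5, 1, 4, 2, 1, 3, 3, 1], 1), ([7, 5, 7, 2, 1, 3, 5, 7, 1, 5, 0, 5, 1, 4, 0, 2, 1, 5, 0, 4, 1, 4, 0, 6, 4, 2, 0, 3, 6, 4, 6, 2, 4, 4, 3, 3, 4, 2, 5], 1), ([3, 3, 1, 5, 0, 4, 1, 4, 0, 6, 4, 2, 0, 3, 6, 4, 6, 0, 2, 2, 0, 3, 0, 3, 3, 1, 5, 0, 4, 1, 4, 0, 6, 4, 2, 0, 3, 6, 4, 6, 2, 4, 3, 1, 5, 0, 5, 1, 4, 1], 1), ([3, 3, 1, 5, 0, 4, 1, 4, 0, 6, 4, 2, 0, 3, 6, 4, 6, 1, 4, 0, 3, 3, 1, 5, 0, 4, 1, 4, 0, 6, 4, 2, 0, 3, 6, 4, 6, 1, 5, 0, 3, 3, 1, 5, 0, 4, 1, 4, 0, 6, 4, 2, 0, 3, 6, 4, 6, 1, 4, 0, 2, 5, 3, 0, 3, 4, 2, 0, 0, 0], 1), ([5, 7, 2, 1, 3, 5, 7, 1, 5, 0, 5, 1, 4, 0, 2, 1, 4, 7, 5, 7, 2, 1, 3, 5, 7, 1, 5, 0, 5, 1, 4, 0, 2, 2, 1, 7, 5, 7, 2, 1, 3, 5, 7, 1, 5, 0, 5, 1, 4, 0, 2, 2, 1, 5, 1, 5, 0, 4, 1, 4,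 0, 2, 4, 3, 4, 2, 0, 3, 3, 1], 1), ([6, 6, 1, 1, 1, 1], 1), ([3, 7, 2, 6], 1), ([7, 0, 6, 1, 1, 1], 1), ([6, 5, 1, 5, 0, 4, 1, 4, 0], 5), ([6, 5, 1, 5, 0, 4, 1, 4, 0, 6, 1, 5, 0, 5, 1, 4, 0, 4, 6, 5, 1, 5, 0, 4, 1, 4, 1], 1)]
theorem sat8 : Sat (cut 8 E) (invT pT 8) pB := sat.cut [[([], 0, true)], [([], 1, true)], [([], 2, true)], [([], 3, true)], [([], 4, true)], [([], 10, true)], [([], 11, true)], [([], 12, true)], [([], 13, true)], [([], 14, true)], [([], 15, true)], [([], 16, true)], [([], 17, true)], [([], 18, true)], [([], 19, true)], [([], 20, true)], [([], 21, true)], [([], 22, true)], [([], 23, true)], [([], 24, true)], [([], 25, true)], [([], 26, true)], [([], 27, true)], [([], 29, true)], [([], 30, true)], [([], 31,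 true)], [([], 32, true)], [([], 33, true)], [([], 34, true)], [([], 35, true)], [([], 36, true)], [([], 37, true)], [([], 38, true)], [([], 39, true)], [([], 40, true)], [([], 41, true)], [([], 42, true)], [([], 43, true)]] (by decide +kernel)
theorem bound {H : Type*} [Group H] {E : ℕ → H} (h : Sat E (invT pT 8) pB) : CardLe (cl E 8) 5859000000 := by
  have c0 : CardLe (gp E [[0], [1]]) (8 * 1) :=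
    cardLe_nil.step (LyT0.idx h.hi h.hB [[0], [1]] (by decide +kernel)) (by decide +kernel)
  have c1 : CardLe (gp E [[0], [1], [2], [3]]) (60 * 8) :=
    c0.step (LyT1.idx h.hi h.hB [[0], [1], [2], [3]] (by decide +kernel)) (by decide +kernel)
  have c2 : CardLe (gp E [[0], [1], [2], [3], [4], [5]]) (3125 * 480) :=
    c1.step (LyT2.idx h.hi h.hB [[0], [1], [2], [3], [4], [5]] (by decide +kernel)) (by decide +kernel)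
  have c3 : CardLe (gp E [[0], [1], [2], [3], [4], [5], [6], [7]]) (3906 * 1500000) :=
    c2.step (LyT3.idx h.hi h.hB [[0], [1], [2], [3], [4], [5], [6], [7]] (by decide +kernel)) (by decide +kernel)
  rw [cl_eq_gp (ws := [[0], [1], [2], [3], [4], [5], [6], [7]]) (by decide +kernel)]; exact c3
theorem hH : (Subgroup.closure ({Spor.Ly.a, Spor.Ly.b, Spor.Ly.c, Spor.Ly.d} : Set (FreeGroup Spor.Ly.Gen))).map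
    (PresentedGroup.mk (Spor.coxRelators Spor.Ly.edges ∪ {r | r ∈ Spor.Ly.extra})) = cl (cut 8 E) 8 := by
  rw [cl_cut, MonoidHom.map_closure]
  refine le_antisymm ((Subgroup.closure_le _).mpr ?_) (cl_le.mpr fun l hl => ?_)
  · rintro _ ⟨_, rfl | rfl | rfl | rfl, rfl⟩
    exacts [mem_cl (e := E) (l := 0) (by omega), mem_cl (e := E) (l := 2) (by omega), mem_cl (e := E) (l := 4) (by omega),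
      mem_cl (e := E) (l := 6) (by omega)]
  · have h := fun x (h : x ∈ ({Spor.Ly.a, Spor.Ly.b, Spor.Ly.c, Spor.Ly.d} : Set (FreeGroup Spor.Ly.Gen))) =>
      Subgroup.subset_closure (Set.mem_image_of_mem
        (PresentedGroup.mk (Spor.coxRelators Spor.Ly.edges ∪ {r | r ∈ Spor.Ly.extra})) h)
    interval_cases l
    exacts [h Spor.Ly.a (by simp), inv_mem (h Spor.Ly.a (by simp)), h Spor.Ly.b (by simp), inv_mem (h Spor.Ly.b (by simp)),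
      h Spor.Ly.c (by simp), inv_mem (h Spor.Ly.c (by simp)), h Spor.Ly.d (by simp), inv_mem (h Spor.Ly.d (by simp))]

end Cfsg.Agent.H15.Ly
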