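import Cfsg.Agent.H15.Ly.AM
import Cfsg.Agent.H15.Ly.D1
set_option autoImplicit false
set_option maxRecDepth 100000

namespace Cfsg.Agent.H15.Ly
open Cfsg.Agent.H15 Cfsg.Agent.H14

theorem rx3 : (okS M7.L [[10], [11], [12]] && Nat.blt 0 78125 && Nat.blt 0 (M7.m + 1) && Nat.blt 2880 10000 &&
    orbSum (fun c => Nat.mod c 78125) (fun c => Bool.rec 1 (Nat.add 10000 1) (M7.trq 3 3 c))
      ([[10], [11], [12]].map fun w c => frcN (mapT 78125 (tr M7.ap w) (M7.m + 1) c) id) (Nat.add 2880 1) 277556466700843889266264438659668046905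
      fun _ s => Nat.beq s (Nat.add 2880 (Nat.mul 10000 20))) = true := by decide +kernel
theorem rt3 : (okS M7.L [[10], [11], [12]] && Nat.blt 0 78125 && Nat.blt 0 (M7.m + 1) && Nat.blt 2880 10000 &&
    orbSum (fun c => Nat.mod c 78125) (fun c => Bool.rec 1 (Nat.add 10000 1) (M7.trq 4 2 c))
      ([[10], [11], [12]].map fun w c => frcN (mapT 78125 (tr M7.ap w) (M7.m + 1) c) id) (Nat.add 2880 1) 277556466700843889266264438659668046905
      fun _ s => Nat.beq s (Nat.add 2880 (Nat.mul 10000 235))) = true := by decide +kernel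

end Cfsg.Agent.H15.Ly
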