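import Cfsg.Agent.H15.Ly.T
set_option autoImplicit false
set_option maxRecDepth 100000

namespace Cfsg.Agent.H15.Ly
open Cfsg.Agent.H15 Cfsg.Agent.H14

def cxS4 : List (List ℕ) := [[0, 0]]
def cxT4 : List (List ℕ) := cxS4 ++ []
theorem cxk4 : stepOk ap 8 19530 id cxS4 [] 8 4 = true := by decide +kernel
def cxS3 : List (List ℕ) := [[2, 0, 3]]
def cxT3 : List (List ℕ) := cxS3 ++ cxT4
theorem cxk3 : stepOk ap 8 19530 id cxS3 cxT4 4 2 = true := by decide +kernel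
def cxS2 : List (List ℕ) := [[2, 0, 3, 0]]
def cxT2 : List (List ℕ) := cxS2 ++ cxT3
theorem cxk2 : stepOk ap 8 19530 id cxS2 cxT3 2 3 = true := by decide +kernel
def cxS1 : List (List ℕ) := [[4], [3, 3, 0, 2]]
def cxT1 : List (List ℕ) := cxS1 ++ cxT2
theorem cxk1 : stepOk ap 8 19530 id cxS1 cxT2 5 12500 = true := by decide +kernel
def cxS0 : List (List ℕ) := [[3], [5], [7]]
def cxT0 : List (List ℕ) := cxS0 ++ cxT1
theorem cxk0 : stepOk ap 8 19530 id cxS0 cxT1 0 19530 = true := by decide +kernel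
theorem cxy3 : (okW 8 [0, 2, 1, 3] && okS 8 cxT3 && Nat.blt 2 19530 && fixAt ap cxT3 2 && Nat.beq (tr ap [0, 2, 1, 3] 2) 4) = true := by decide +kernel
theorem cxy2 : (okW 8 [0, 2, 1, 3] && okS 8 cxT2 && Nat.blt 2 19530 && orbRun id (cxT2.map (tr ap)) 4 2 fun U _ =>
    Nat.ble (cntLt 19530 fun y => tb U y && beqB (Nat.beq (tr ap [0, 2, 1, 3] y) y) (Nat.beq (tr ap [0, 2, 1, 3] 2) 2)) 3) = true := by decide +kernel
theorem cxy1 : (okW 8 [0, 2, 1, 3] && okS 8 cxT1 && Nat.blt 5 19530 && orbRun id (cxT1.map (tr ap)) 12501 5 fun U _ =>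
    Nat.ble (cntLt 19530 fun y => tb U y && beqB (Nat.beq (tr ap [0, 2, 1, 3] y) y) (Nat.beq (tr ap [0, 2, 1, 3] 5) 5)) 125) = true := by decide +kernel
theorem cxy0 : (okW 8 [0, 2, 1, 3] && okS 8 (idW 8) && Nat.blt 0 19530 && orbRun id ((idW 8).map (tr ap)) 19531 0 fun U _ =>
    Nat.ble (cntLt 19530 fun y => tb U y && beqB (Nat.beq (tr ap [0, 2, 1, 3] y) y) (Nat.beq (tr ap [0, 2, 1, 3] 0) 0)) 252) = true := by decide +kernel
theorem fxx : (okW 8 [0, 2, 1, 3] && Nat.ble (cntLt 19530 fun y => Nat.beq (tr ap [0, 2, 1, 3] y) y) 252) = true := by decide +kernel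
theorem fxt : (okW 8 [0, 0, 0, 0] && Nat.ble (cntLt 19530 fun y => Nat.beq (tr ap [0, 0, 0, 0] y) y) 66) = true := by decide +kernel

end Cfsg.Agent.H15.Ly
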