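import Cfsg.Agent.H15.Ly.AM
set_option autoImplicit false
set_option maxRecDepth 100000

namespace Cfsg.Agent.H15.Ly
open Cfsg.Agent.H15 Cfsg.Agent.H14

def ctS3 : List (List ℕ) := [[6, 5, 1, 5, 0, 4, 1, 4, 0, 7]]
def ctT3 : List (List ℕ) := ctS3 ++ []
theorem ctk3 : stepOk M7.ap 16 78125 id ctS3 [] 3125 5 = true := by decide +kernel
def ctS2 : List (List ℕ) := [[6], [0, 0], [5, 0, 5, 1, 4, 0, 4, 0]]
def ctT2 : List (List ℕ) := ctS2 ++ ctT3
theorem ctk2 : stepOk M7.ap 16 78125 id ctS2 ctT3 1 24 = true := by decide +kernel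
def ctS1 : List (List ℕ) := [[4, 3, 4, 2], [6, 2, 0, 3, 0]]
def ctT1 : List (List ℕ) := ctS1 ++ ctT2
theorem ctk1 : stepOk M7.ap 16 78125 id ctS1 ctT2 25 3150 = true := by decide +kernel
def ctS0 : List (List ℕ) := [[3], [5], [7]]
def ctT0 : List (List ℕ) := ctS0 ++ ctT1
theorem ctk0 : stepOk M7.ap 16 78125 id ctS0 ctT1 675 15500 = true := by decide +kernel
theorem cty1 : (okW 16 [0, 0, 0, 0] && okS 16 ctT1 && Nat.blt 25 78125 && orbRun id (ctT1.map (tr M7.ap)) 3151 25 fun U _ =>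
    Nat.ble (cntLt 78125 fun y => tb U y && beqB (Nat.beq (tr M7.ap [0, 0, 0, 0] y) y) (Nat.beq (tr M7.ap [0, 0, 0, 0] 25) 25)) 6) = true := by decide +kernel
theorem cty0 : (okW 16 [0, 0, 0, 0] && okS 16 (idW 8) && Nat.blt 675 78125 && orbRun id ((idW 8).map (tr M7.ap)) 15501 675 fun U _ =>
    Nat.ble (cntLt 78125 fun y => tb U y && beqB (Nat.beq (tr M7.ap [0, 0, 0, 0] y) y) (Nat.beq (tr M7.ap [0, 0, 0, 0] 675) 675)) 20) = true := by decide +kernel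

end Cfsg.Agent.H15.Ly
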