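import Cfsg.Agent.H15.Big6
import Cfsg.Agent.H15.Ly.G
import Cfsg.Agent.H15.Ly.Z0
import Cfsg.Agent.H15.Ly.Z1
import Cfsg.Agent.H15.Ly.Y0
import Cfsg.Agent.H15.Ly.Y1
import Cfsg.Agent.H15.Ly.Y2
set_option autoImplicit false
set_option maxRecDepth 100000

namespace Cfsg.Agent.H15.Ly
open Cfsg.Agent.H15 Cfsg.Agent.H14

instance nz7 : NeZero M7.p := ⟨by decide⟩
noncomputable abbrev A7 := M7ok.tab
theorem cx4 : A.Lower (gp A.e cxT4) [8] 4 := TabAct.Lower.step (k := 4) (A.lower_nil _) cxk4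
theorem cx3 : A.Lower (gp A.e cxT3) [4, 8] 8 := TabAct.Lower.step (k := 2) cx4 cxk3
theorem cx2 : A.Lower (gp A.e cxT2) [2, 4, 8] 24 := TabAct.Lower.step (k := 3) cx3 cxk2
theorem cx1 : A.Lower (gp A.e cxT1) [5, 2, 4, 8] 300000 := TabAct.Lower.step (k := 12500) cx2 cxk1
theorem cx0 : A.Lower (gp A.e cxT0) [0, 5, 2, 4, 8] 5859000000 := TabAct.Lower.step (k := 19530) cx1 cxk0
theorem cxx0 : gp A.e (idW 8) ⊓ MulAction.stabilizer _ (A.c 0) = gp A.e cxT1 ∧ Nat.card (gp A.e cxT1) ≤ 300000 :=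
  TabAct.ex_step' (Subgroup.card_le_card_group _ |>.trans cardΓ) (gp_le_idW (by decide +kernel)) cxk0 (by norm_num) cx1.le_card
theorem cxx1 : gp A.e cxT1 ⊓ MulAction.stabilizer _ (A.c 5) = gp A.e cxT2 ∧ Nat.card (gp A.e cxT2) ≤ 24 :=
  TabAct.ex_step cxx0.2 cxk1 (by norm_num) cx2.le_card
theorem cxx2 : gp A.e cxT2 ⊓ MulAction.stabilizer _ (A.c 2) = gp A.e cxT3 ∧ Nat.card (gp A.e cxT3) ≤ 8 :=
  TabAct.ex_step cxx1.2 cxk2 (by norm_num) cx3.le_card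
theorem cxx3 : gp A.e cxT3 ⊓ MulAction.stabilizer _ (A.c 4) = gp A.e cxT4 ∧ Nat.card (gp A.e cxT4) ≤ 4 :=
  TabAct.ex_step cxx2.2 cxk3 (by norm_num) cx4.le_card
theorem cxc3 : A.CB [0, 2, 1, 3] cxT3 4 :=
  TabAct.CB.der cxx3.1 (TabAct.CB.of_le cxx3.2) 2 cxy3
theorem cxc2 : A.CB [0, 2, 1, 3] cxT2 12 :=
  TabAct.CB.step cxx2.1 cxc3 4 3 cxy2
theorem cxc1 : A.CB [0, 2, 1, 3] cxT1 1500 :=
  TabAct.CB.step cxx1.1 cxc2 12501 125 cxy1
theorem cxc0 : A.CB [0, 2, 1, 3] (idW 8) 378000 :=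
  TabAct.CB.step cxx0.1 cxc1 19531 252 cxy0
theorem ct3 : A7.Lower (gp A7.e ctT3) [3125] 5 := TabAct.Lower.step (k := 5) (A7.lower_nil _) ctk3
theorem ct2 : A7.Lower (gp A7.e ctT2) [1, 3125] 120 := TabAct.Lower.step (k := 24) ct3 ctk2
theorem ct1 : A7.Lower (gp A7.e ctT1) [25, 1, 3125] 378000 := TabAct.Lower.step (k := 3150) ct2 ctk1
theorem ct0 : A7.Lower (gp A7.e ctT0) [675, 25, 1, 3125] 5859000000 := TabAct.Lower.step (k := 15500) ct1 ctk0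
theorem ctx0 : gp A7.e (idW 8) ⊓ MulAction.stabilizer _ (A7.c 675) = gp A7.e ctT1 ∧ Nat.card (gp A7.e ctT1) ≤ 378000 :=
  TabAct.ex_step' (gp_idW M7.e 8 ▸ cl_cut (E := M7.e) ▸ (bound s7).2) (gp_le_idW (by decide +kernel)) ctk0 (by norm_num) ct1.le_card
theorem ctx1 : gp A7.e ctT1 ⊓ MulAction.stabilizer _ (A7.c 25) = gp A7.e ctT2 ∧ Nat.card (gp A7.e ctT2) ≤ 120 :=
  TabAct.ex_step ctx0.2 ctk1 (by norm_num) ct2.le_card
theorem ctc1 : A7.CB [0, 0, 0, 0] ctT1 720 :=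
  TabAct.CB.step ctx1.1 (TabAct.CB.of_le ctx1.2) 3151 6 cty1
theorem ctc0 : A7.CB [0, 0, 0, 0] (idW 8) 14400 :=
  TabAct.CB.step ctx0.1 ctc1 15501 20 cty0
theorem ψ7_inj : Function.Injective ψ7 := inj_simple ψ7 (a := lprod A.e [0]) (by
  rw [map_lprod]; exact M7ok.ne (a := 8) (x := 0) (by decide +kernel))
theorem w7 {w : List ℕ} (h : okW 8 w = true) : ψ7 (lprod A.e w) = lprod M7.e w := by
  rw [map_lprod]; exact lprod_cut h
theorem cX : Nat.card (Subgroup.centralizer {lprod A.e gM}) ≤ 378000 := by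
  have := cxc0
  rwa [TabAct.CB, gp_idW, topΓ, top_inf_eq] at this
theorem cT : Nat.card (Subgroup.centralizer {lprod A.e gT}) ≤ 14400 :=
  cen_le_of_map ψ7_inj (by
    rw [MonoidHom.range_eq_map, ← topΓ, map_cl, gp_idW]; exact (cl_cut (E := M7.e)).le) (w7 (by decide)) ctc0
theorem st (d : DL) (hd : d ∈ ds) : gp A.e d.T = (MulAction.stabilizer G (dh.p d.i)).comap φ ∧ Nat.card (gp A.e d.T) ≤ d.m :=
  fin.2.2.2.2.2.2.2 _ (List.mem_map_of_mem hd) _ _ (cov.2 d hd) (live d hd).2.2 (live d hd).le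
theorem cGx : Nat.card (Subgroup.centralizer {φ (lprod A.e gM)}) ≤ [1, 252, 3500, 2625, 750].sum * 378000 :=
  cov.1.cen_le fin.2.2.2.2.1 (MulAction.stabilizer_quotient _) _ _
    (.cons (FixLe.triv cov.1 (List.mem_map_of_mem (a := d0) (by simp [ds])) _)
    (.cons (FixLe.tab A pok.full (st1.symm.trans (st d1 (by simp [ds])).1) fxx)
    (.cons (FixLe.cnt (st d2 (by simp [ds])).1 (M7ok.count ψ7 ψ7_inj (M7ok.le_map ψ7 (a := 8) (fun _ => rfl) lm2) (w7 (by decide))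
      (by decide +kernel) (st d2 (by simp [ds])).2 qx2 rx2) cX (live d2 (by simp [ds])).2.2 (by decide +kernel))
    (.cons (FixLe.cnt (st d3 (by simp [ds])).1 (M7ok.count ψ7 ψ7_inj (M7ok.le_map ψ7 (a := 8) (fun _ => rfl) lm3) (w7 (by decide))
      (by decide +kernel) (st d3 (by simp [ds])).2 qx3 rx3) cX (live d3 (by simp [ds])).2.2 (by decide +kernel))
    (.cons (FixLe.cnt (st d4 (by simp [ds])).1 (M7ok.count ψ7 ψ7_inj (M7ok.le_map ψ7 (a := 8) (fun _ => rfl) lm4) (w7 (by decide))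
      (by decide +kernel) (st d4 (by simp [ds])).2 qx4 rx4) cX (live d4 (by simp [ds])).2.2 (by decide +kernel))
    (.nil)))))) cX
theorem cGt : Nat.card (Subgroup.centralizer {φ (lprod A.e gT)}) ≤ [1, 66, 150, 1175, 1500].sum * 14400 :=
  cov.1.cen_le fin.2.2.2.2.1 (MulAction.stabilizer_quotient _) _ _
    (.cons (FixLe.triv cov.1 (List.mem_map_of_mem (a := d0) (by simp [ds])) _)
    (.cons (FixLe.tab A pok.full (st1.symm.trans (st d1 (by simp [ds])).1) fxt)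
    (.cons (FixLe.cnt (st d2 (by simp [ds])).1 (M7ok.count ψ7 ψ7_inj (M7ok.le_map ψ7 (a := 8) (fun _ => rfl) lm2) (w7 (by decide))
      (by decide +kernel) (st d2 (by simp [ds])).2 qt2 rt2) cT (live d2 (by simp [ds])).2.2 (by decide +kernel))
    (.cons (FixLe.cnt (st d3 (by simp [ds])).1 (M7ok.count ψ7 ψ7_inj (M7ok.le_map ψ7 (a := 8) (fun _ => rfl) lm3) (w7 (by decide))
      (by decide +kernel) (st d3 (by simp [ds])).2 qt3 rt3) cT (live d3 (by simp [ds])).2.2 (by decide +kernel))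
    (.cons (FixLe.cnt (st d4 (by simp [ds])).1 (M7ok.count ψ7 ψ7_inj (M7ok.le_map ψ7 (a := 8) (fun _ => rfl) lm4) (w7 (by decide))
      (by decide +kernel) (st d4 (by simp [ds])).2 qt4 rt4) cT (live d4 (by simp [ds])).2.2 (by decide +kernel))
    (.nil)))))) cT
theorem cenM : Nat.card (Subgroup.centralizer {φ (lprod A.e gM)}) < 2 * Nat.card (cl mcA.e mcA.L) :=
  cGx.trans_lt (by rw [mcN]; decide +kernel)
theorem cenT : Nat.card (Subgroup.centralizer {φ (lprod A.e gT)}) < 2 * Nat.card (cl alA.e alA.L) :=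
  cGt.trans_lt (by rw [alN]; decide +kernel)

end Cfsg.Agent.H15.Ly
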